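import Groth.Agent.KFlatLib.Scheme.TensorStalk
import Groth.Agent.QCoh.TensorSections
import Groth.Agent.QCoh.Support
import Groth.Agent.QCoh.DevissageP
import Groth.Prelude.Def_ParBun2
import Groth.Prelude.Def_FGA
import Mathlib.LinearAlgebra.TensorProduct.Pi
import Mathlib.LinearAlgebra.Dimension.Constructions
import Mathlib.LinearAlgebra.FiniteDimensional.Lemmas

/-!
# Stalks of `E ⊗ O_D`
-/

set_option autoImplicit false
set_option linter.style.haveILetI false
set_option linter.unusedSectionVars false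

universe u
open CategoryTheory CategoryTheory.Limits AlgebraicGeometry TopologicalSpace Opposite
open scoped TensorProduct

namespace Groth.Agent.ParShLib

section Algebra

variable (k : Type u) [Field k] {R : Type u} [CommRing R] [Algebra k R]
  {M N Q A B : Type u} [AddCommGroup M] [Module R M] [AddCommGroup N] [Module R N] [AddCommGroup Q] [Module R Q]
  [AddCommGroup A] [Module R A] [AddCommGroup B] [Module R B]
  [Module k M] [IsScalarTower k R M] [Module k N] [IsScalarTower k R N] [Module k Q] [IsScalarTower k R Q]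
  [Module k A] [IsScalarTower k R A] [Module k B] [IsScalarTower k R B]

theorem finrank_tensor_free [Module.Free R M] [Module.Finite R M] [Nontrivial R] (e : A ≃ₗ[R] M ⊗[R] Q)
    [Module.Finite k Q] :
    Module.Finite k A ∧ Module.finrank k A = Module.finrank R M * Module.finrank k Q := by
  classical
  let b := Module.Free.chooseBasis R M
  let e' : A ≃ₗ[R] (Module.Free.ChooseBasisIndex R M → Q) :=
    e.trans ((TensorProduct.congr b.equivFun (LinearEquiv.refl R Q)).trans
      ((TensorProduct.comm R _ Q).trans (TensorProduct.piScalarRight R R Q _)))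
  refine ⟨Module.Finite.equiv (e'.restrictScalars k).symm, ?_⟩
  rw [(e'.restrictScalars k).finrank_eq, Module.finrank_pi_fintype, Module.finrank_eq_card_basis b]
  simp

/-- The kernel of `f ⊗ Q` is no larger than the cokernel of `f`, for cyclic `Q` and equal dimensions. -/
theorem finrank_ker_le (f : M →ₗ[R] N) (g : A →ₗ[R] B) (eA : A ≃ₗ[R] M ⊗[R] Q) (eB : B ≃ₗ[R] N ⊗[R] Q)
    (hg : ∀ a, eB (g a) = LinearMap.rTensor Q f (eA a)) (q₀ : Q) (hq : ∀ q, ∃ r : R, q = r • q₀)
    [Module.Finite k A] [Module.Finite k B] (hAB : Module.finrank k A = Module.finrank k B)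
    [Module.Finite k (N ⧸ LinearMap.range f)] :
    Module.finrank k (LinearMap.ker (g.restrictScalars k)) ≤ Module.finrank k (N ⧸ LinearMap.range f) := by
  let ψ : N →ₗ[R] B ⧸ LinearMap.range g :=
    (LinearMap.range g).mkQ ∘ₗ eB.symm.toLinearMap ∘ₗ (TensorProduct.mk R N Q).flip q₀
  have hψ : LinearMap.range f ≤ LinearMap.ker ψ := by
    rintro _ ⟨m, rfl⟩
    refine (Submodule.Quotient.mk_eq_zero _).2 ⟨eA.symm (m ⊗ₜ q₀), eB.injective ?_⟩
    rw [hg]
    simp
  let Ψ := (LinearMap.range f).liftQ ψ hψ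
  have hΨ : Function.Surjective Ψ := by
    intro z
    obtain ⟨y, rfl⟩ := Submodule.Quotient.mk_surjective _ z
    obtain ⟨w, rfl⟩ := eB.symm.surjective y
    induction w with
    | zero => exact ⟨0, by rw [map_zero, map_zero, Submodule.Quotient.mk_zero]⟩
    | tmul n q =>
      obtain ⟨r, rfl⟩ := hq q
      exact ⟨Submodule.Quotient.mk (r • n), by
        show ψ (r • n) = _
        simp [ψ, TensorProduct.smul_tmul]⟩
    | add u v hu hv =>
      obtain ⟨a, ha⟩ := hu
      obtain ⟨b, hb⟩ := hv
      exact ⟨a + b, by rw [map_add, ha, hb, ← Submodule.Quotient.mk_add, map_add]⟩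
  have h1 := LinearMap.finrank_le_finrank_of_surjective (f := Ψ.restrictScalars k) hΨ
  have h2 := LinearMap.finrank_range_add_finrank_ker (g.restrictScalars k)
  have h3 := Submodule.finrank_quotient_add_finrank (LinearMap.range (g.restrictScalars k))
  have h4 : Module.finrank k (B ⧸ LinearMap.range (g.restrictScalars k)) = Module.finrank k (B ⧸ LinearMap.range g) :=
    (Submodule.Quotient.restrictScalarsEquiv k (LinearMap.range g)).finrank_eq
  omega

end Algebra

variable {X : Scheme.{u}} (I : X.IdealSheafData)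

/-- The stalk of a module. -/
noncomputable abbrev stk (M : X.Modules) (x : X) : Type u := M.presheaf.stalk x

/-- The linear map on stalks. -/
noncomputable abbrev stkMap {M N : X.Modules} (f : M ⟶ N) (x : X) : stk M x →ₗ[X.presheaf.stalk x] stk N x :=
  ((DerSch.stalkFunctor X x).map f).hom

theorem stkMap_germ {M N : X.Modules} (f : M ⟶ N) {U : X.Opens} {x : X} (hx : x ∈ U) (s : Γ(M, U)) :
    stkMap f x (M.presheaf.germ U x hx s) = N.presheaf.germ U x hx (f.app U s) :=
  TopCat.Presheaf.stalkFunctor_map_germ_apply U x hx f.mapPresheaf s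

/-- The stalk of `E ⊗ O_D`. -/
noncomputable def resStalk (E : X.Modules) (x : X) :
    stk (ParSh.resD I E) x ≃ₗ[X.presheaf.stalk x] stk E x ⊗[X.presheaf.stalk x] stk (ClSub.quotMod I) x :=
  ((KFlatLib.stalkTensorRightIso (ClSub.quotMod I) x).app E).toLinearEquiv

theorem resStalk_naturality {E F : X.Modules} (f : E ⟶ F) (x : X) (a : stk (ParSh.resD I E) x) :
    resStalk I F x (stkMap (ParSh.resDMap I f) x a) =
      LinearMap.rTensor (stk (ClSub.quotMod I) x) (stkMap f x) (resStalk I E x a) := by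
  have h := ((KFlatLib.stalkTensorRightIso (ClSub.quotMod I) x).hom.naturality f)
  rw [show ParSh.resDMap I f = (DCoh.tensorBi.map f).app (ClSub.quotMod I) from (KoszTw.tensorBi_map_app f _).symm]
  exact ConcreteCategory.congr_hom h a

theorem isCoh_quotMod [IsLocallyNoetherian X] : Coh.IsCoh (ClSub.quotMod I) := by
  haveI : IsLocallyNoetherian I.subscheme := LocallyOfFiniteType.isLocallyNoetherian I.subschemeι
  exact QCoh.isCoh_pushforward_finite I.subschemeι QCoh.isCoh_structureModule'

theorem isCoh_tensorMod {M N : X.Modules} (hM : Coh.IsCoh M) (hN : Coh.IsCoh N) :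
    Coh.IsCoh (CohB1.tensorMod M N) := by
  refine QCoh.isCoh_iff.2 ⟨KFlatLib.isQCoh_tensor hM.1 hN.1, fun U => ?_⟩
  haveI := QCoh.finite_sections hM U.2
  haveI := QCoh.finite_sections hN U.2
  exact Module.Finite.of_surjective (QCoh.tmLin M N U.1) (QCoh.bijective_tmLin hM.1 hN.1 U.2).2

theorem isCoh_resD [IsLocallyNoetherian X] {E : X.Modules} (hE : Coh.IsCoh E) : Coh.IsCoh (ParSh.resD I E) :=
  isCoh_tensorMod hE (isCoh_quotMod I)

theorem exists_germ_smul (x : X) :
    ∃ q₀ : stk (ClSub.quotMod I) x, ∀ q, ∃ r : X.presheaf.stalk x, q = r • q₀ := by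
  refine ⟨(ClSub.quotMod I).presheaf.germ ⊤ x trivial (1 : Γ(I.subscheme, I.subschemeι ⁻¹ᵁ ⊤)), fun q => ?_⟩
  obtain ⟨V, hxV, s, rfl⟩ := (ClSub.quotMod I).presheaf.germ_exist q
  obtain ⟨_, ⟨W, hW, rfl⟩, hxW, hWV⟩ :=
    X.isBasis_affineOpens.exists_subset_of_mem_open (show x ∈ V from hxV) V.2
  have hle : W ≤ V := hWV
  obtain ⟨r, hr⟩ := I.subschemeι_app_surjective ⟨W, hW⟩
    (show Γ(I.subscheme, I.subschemeι ⁻¹ᵁ W) from (ClSub.quotMod I).presheaf.map (homOfLE hle).op s)
  refine ⟨X.presheaf.germ W x hxW r, ?_⟩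
  let one : Γ(ClSub.quotMod I, W) := (ClSub.quotMod I).presheaf.map (homOfLE le_top).op
    (1 : Γ(I.subscheme, I.subschemeι ⁻¹ᵁ ⊤))
  have h1 : (show Γ(I.subscheme, I.subschemeι ⁻¹ᵁ W) from one) = 1 :=
    map_one (I.subscheme.presheaf.map ((Opens.map I.subschemeι.base).map (homOfLE (le_top : W ≤ ⊤))).op).hom
  have h2 : (r • one : Γ(ClSub.quotMod I, W)) = (ClSub.quotMod I).presheaf.map (homOfLE hle).op s := by
    refine Eq.trans ?_ hr
    show (I.subschemeι.app W r * (show Γ(I.subscheme, I.subschemeι ⁻¹ᵁ W) from one) :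
      Γ(I.subscheme, I.subschemeι ⁻¹ᵁ W)) = _
    rw [h1, mul_one]
  rw [← (ClSub.quotMod I).presheaf.germ_res_apply (homOfLE hle) x hxW s, ← h2]
  refine (QCoh.germ_smul' (ClSub.quotMod I) hxW r one).trans ?_
  exact congrArg (X.presheaf.germ W x hxW r • ·)
    ((ClSub.quotMod I).presheaf.germ_res_apply (homOfLE le_top) x hxW _)

theorem subsingleton_stalk_quotMod {x : X} (hx : x ∉ I.support) : Subsingleton (stk (ClSub.quotMod I) x) := by
  refine subsingleton_of_forall_eq 0 fun q => ?_
  obtain ⟨V, hxV, s, rfl⟩ := (ClSub.quotMod I).presheaf.germ_exist q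
  let W : X.Opens := V ⊓ ⟨(I.support : Set X)ᶜ, I.support.isClosed.isOpen_compl⟩
  have he : I.subschemeι ⁻¹ᵁ W = ⊥ := by
    refine Opens.ext (Set.eq_empty_iff_forall_notMem.2 fun z hz => hz.2 ?_)
    have := I.range_subschemeι
    exact this ▸ Set.mem_range_self z
  haveI : Subsingleton Γ(ClSub.quotMod I, W) := by
    show Subsingleton Γ(I.subscheme, I.subschemeι ⁻¹ᵁ W)
    rw [he]
    infer_instance
  rw [← (ClSub.quotMod I).presheaf.germ_res_apply (homOfLE (inf_le_left : W ≤ V)) x ⟨hxV, hx⟩ s,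
    Subsingleton.elim ((ClSub.quotMod I).presheaf.map (homOfLE (inf_le_left : W ≤ V)).op s) 0, map_zero]

theorem subsingleton_stalk_resD (E : X.Modules) {x : X} (hx : x ∉ I.support) :
    Subsingleton (stk (ParSh.resD I E) x) := by
  haveI := subsingleton_stalk_quotMod I hx
  refine Equiv.subsingleton (β := stk E x ⊗[X.presheaf.stalk x] stk (ClSub.quotMod I) x) (resStalk I E x).toEquiv

theorem genericPoint_notMem_support [IsIntegral X] (hD : FGA.IsEffCartier I) : genericPoint X ∉ I.support := by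
  intro hη
  obtain ⟨U, hηU, a, ha, hI⟩ := hD (genericPoint X)
  have h := (I.coe_support_inter U).le ⟨hη, hηU⟩
  have hz := (X.mem_zeroLocus_iff _ _).1 h.1 a (by rw [hI]; exact Ideal.mem_span_singleton_self a)
  apply hz
  haveI : Nonempty (U : X.Opens) := ⟨⟨_, hηU⟩⟩
  rw [X.mem_basicOpen (U := (U : X.Opens)) a _ hηU]
  letI : Field (X.presheaf.stalk (genericPoint X)) := inferInstanceAs (Field X.functionField)
  refine isUnit_iff_ne_zero.2 fun h0 => ?_
  exact nonZeroDivisors.ne_zero ha (germ_injective_of_isIntegral X (genericPoint X) hηU (h0.trans (map_zero _).symm))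

end Groth.Agent.ParShLib
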