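import Groth.Agent.CurveCohLib.Proper
import Groth.Agent.AmpleVan.Vanish
import Groth.Agent.AmpleVan.Mul
import Groth.Prelude.Def_ParBun

/-! Additivity along parabolic extensions. -/

noncomputable section

set_option linter.style.haveILetI false
set_option linter.unusedSectionVars false
set_option maxHeartbeats 400000
set_option backward.isDefEq.respectTransparency false
set_option backward.isDefEq.respectTransparency.types false

universe u v

open CategoryTheory CategoryTheory.Limits AlgebraicGeometry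

namespace Groth.Agent.ParShLib

section Abelian

variable {C : Type u} [Category.{v} C] [Abelian C]

/-- A subobject meets the sub and maps onto its image in the quotient. -/
theorem shortExact_pullback_image {S : ShortComplex C} (hS : S.ShortExact) (P : Subobject S.X₂) :
    ∃ w : Subobject.pullbackπ S.f P ≫ factorThruImageSubobject (P.arrow ≫ S.g) = 0,
      (ShortComplex.mk _ _ w).ShortExact := by
  haveI := hS.mono_f
  have hpb := Subobject.isPullback S.f P
  haveI : Mono (Subobject.pullbackπ S.f P) := hpb.mono_fst_of_mono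
  have hw : Subobject.pullbackπ S.f P ≫ factorThruImageSubobject (P.arrow ≫ S.g) = 0 := by
    rw [← cancel_mono (imageSubobject (P.arrow ≫ S.g)).arrow, Category.assoc, imageSubobject_arrow_comp,
      zero_comp, reassoc_of% hpb.w, S.zero, comp_zero]
  refine ⟨hw, ?_⟩
  refine { exact := ShortComplex.exact_of_f_is_kernel _ (KernelFork.IsLimit.ofι' _ _ fun {T} t ht => ?_),
           mono_f := inferInstance, epi_g := inferInstance }
  have h1 : (t ≫ P.arrow) ≫ S.g = 0 := by
    have h2 : (t ≫ factorThruImageSubobject (P.arrow ≫ S.g)) ≫ (imageSubobject (P.arrow ≫ S.g)).arrow = 0 := by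
      rw [ht, zero_comp]
    simpa using h2
  exact ⟨hpb.lift t (hS.exact.lift (t ≫ P.arrow) h1) (hS.exact.lift_f _ h1).symm, hpb.lift_fst _ _ _⟩

/-- The kernel of a map is the kernel of its corestriction to the image. -/
def kernelIso {A B P : C} (f : A ⟶ B) (g : B ⟶ P) (w : f ≫ factorThruImageSubobject g = 0)
    (h : (ShortComplex.mk _ _ w).ShortExact) : kernel g ≅ A :=
  haveI := h.mono_f
  kernelIsoOfEq (imageSubobject_arrow_comp g).symm ≪≫ kernelCompMono _ _ ≪≫
    IsLimit.conePointUniqueUpToIso (kernelIsKernel _) h.fIsKernel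

end Abelian

variable {X : Scheme.{u}}

theorem isCoh_ofIso [IsLocallyNoetherian X] {A B : X.Modules} (e : A ≅ B) (h : Coh.IsCoh A) : Coh.IsCoh B :=
  QCoh.isCoh_of_mono e.inv h ((QCoh.isQCoh_iff_iso e).1 h.1)

theorem isCoh_parts [IsLocallyNoetherian X] {A B P : X.Modules} (f : A ⟶ B) (g : B ⟶ P)
    (hB : Coh.IsCoh B) (hP : Coh.IsCoh P) (w : f ≫ factorThruImageSubobject g = 0)
    (h : (ShortComplex.mk _ _ w).ShortExact) :
    Coh.IsCoh A ∧ Coh.IsCoh ((imageSubobject g : Subobject P) : X.Modules) := by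
  have h1 : Coh.IsCoh A := isCoh_ofIso (kernelIso f g w h) (QCoh.isCoh_kernel hB hP g)
  haveI := h.epi_g
  exact ⟨h1, isCoh_ofIso (IsColimit.coconePointUniqueUpToIso (cokernelIsCokernel _) h.gIsCokernel)
      (QCoh.isCoh_cokernel h1.1 hB f)⟩

variable (k : Type u) [Field k] [X.Over (Spec (CommRingCat.of k))]
  [IsProper (X ↘ Spec (CommRingCat.of k))]

theorem euler_map_add (F : X.Modules ⥤ X.Modules) [F.Additive] [PreservesFiniteLimits F]
    [PreservesFiniteColimits F] (hc : ∀ A, Coh.IsCoh A → Coh.IsCoh (F.obj A)) {T : ShortComplex X.Modules}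
    (hT : T.ShortExact) (h1 : Coh.IsCoh T.X₁) (h2 : Coh.IsCoh T.X₂) (h3 : Coh.IsCoh T.X₃) :
    Curv2.euler k X (F.obj T.X₂) = Curv2.euler k X (F.obj T.X₁) + Curv2.euler k X (F.obj T.X₃) :=
  CurveCohLib.euler_additive (S := T.map F) (hT.map_of_exact F) (hc _ h1) (hc _ h2) (hc _ h3)

/-- Twisted Euler characteristics are additive. -/
theorem euler_twist_add {T : ShortComplex X.Modules} (hT : T.ShortExact) (h1 : Coh.IsCoh T.X₁)
    (h2 : Coh.IsCoh T.X₂) (h3 : Coh.IsCoh T.X₃) {L : X.Modules} (hL : PicF.IsInvertible L) (m : ℕ) :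
    Curv2.euler k X (ShStab.twist X L T.X₂ m) =
      Curv2.euler k X (ShStab.twist X L T.X₁ m) + Curv2.euler k X (ShStab.twist X L T.X₃ m) := by
  haveI := CurveCohLib.isNoetherian_of_proper (k := k) (X := X)
  have hN := InvX.isInvertible_tensorPow hL m
  have hNc := AmpleVan.isCoh_invertible hN
  haveI := AmpleVan.isEquivalence_tw hN
  haveI : (AmpleVan.tw (CohB1.tensorPow L m)).Additive := Functor.additive_of_preserves_binary_products _
  exact euler_map_add k (AmpleVan.tw (CohB1.tensorPow L m)) (fun A h => AmpleVan.isCoh_tensor h hNc) hT h1 h2 h3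

/-- Twisted Euler characteristics are additive on the pieces. -/
theorem euler_piece {S : ShortComplex X.Modules} (hS : S.ShortExact)
    (h₃ : Coh.IsCoh S.X₃) {L : X.Modules} (hL : PicF.IsInvertible L) (P : Subobject S.X₂)
    (hP : Coh.IsCoh (P : X.Modules)) (m : ℕ) :
    Curv2.euler k X (ShStab.twist X L (P : X.Modules) m) =
      Curv2.euler k X (ShStab.twist X L (((Subobject.pullback S.f).obj P : Subobject S.X₁) : X.Modules) m) +
        Curv2.euler k X (ShStab.twist X L ((imageSubobject (P.arrow ≫ S.g) : Subobject S.X₃) : X.Modules) m) := by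
  haveI := CurveCohLib.isNoetherian_of_proper (k := k) (X := X)
  obtain ⟨w, hT⟩ := shortExact_pullback_image hS P
  obtain ⟨h1, h3⟩ := isCoh_parts _ (P.arrow ≫ S.g) hP h₃ w hT
  exact euler_twist_add k hT h1 hP h3 hL m

end Groth.Agent.ParShLib
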