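import Groth.Agent.Snapper.Main
import Groth.Agent.AmpleVan.Uniform
import Groth.Agent.Lib.CurvePoint
import Groth.Agent.ParShLib.Additive
import Groth.Prelude.Def_W4swparbununimodPar

/-! Degrees of the Hilbert polynomials of the quotients of a parabolic filtration. -/

noncomputable section

set_option linter.style.haveILetI false
set_option linter.unusedSectionVars false
set_option backward.isDefEq.respectTransparency false
set_option backward.isDefEq.respectTransparency.types false

universe u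

open CategoryTheory CategoryTheory.Limits AlgebraicGeometry TopologicalSpace
open scoped Polynomial

namespace Groth.Agent.ParShLib

open Groth.Agent

variable {X : Scheme.{u}}

/-- `I · E` is all of `E` away from the support of `I`. -/
theorem isOn_twistSub (I : X.IdealSheafData) (E : X.Modules) {x : X} (hx : x ∉ (I.support : Set X)) :
    Epi ((DerSch.stalkFunctor X x).map (ParSh.twistSub I E).arrow) := by
  let F := DerSch.stalkFunctor X x
  let U : X.Opens := ⟨(I.support : Set X)ᶜ, I.support.isClosed.isOpen_compl⟩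
  have hι : Snapper.IsoOn U (ClSub.idealModι I) := fun y hy => by
    have hS : (ShortComplex.mk (ClSub.idealModι I) (ClSub.toSubscheme I) (kernel.condition _)).Exact :=
      ShortComplex.exact_of_f_is_kernel _ (kernelIsKernel _)
    haveI : Mono ((DerSch.stalkFunctor X y).map (ClSub.idealModι I)) := by
      unfold ClSub.idealModι; infer_instance
    haveI : Epi ((DerSch.stalkFunctor X y).map (ClSub.idealModι I)) := (hS.map (DerSch.stalkFunctor X y)).epi_f
      ((Snapper.notMem_support_iff.1 (not_not.2 (subsingleton_stalk_quotMod I hy))).eq_of_tgt _ _)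
    exact isIso_of_mono_of_epi _
  haveI : IsIso (F.map (KoszTw.tensorMap (𝟙 E) (ClSub.idealModι I))) := by
    haveI := hι x hx
    have h : IsIso (F.map ((DCoh.tensorBi.obj E).map (ClSub.idealModι I))) :=
      (NatIso.isIso_map_iff (KFlatLib.stalkTensorLeftIso E x) (ClSub.idealModι I)).2 (inferInstanceAs
        (IsIso ((MonoidalCategory.tensorLeft _).map (F.map (ClSub.idealModι I)))))
    have h3 : KoszTw.tensorMap (𝟙 E) (ClSub.idealModι I) = (DCoh.tensorBi.obj E).map (ClSub.idealModι I) := by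
      unfold KoszTw.tensorMap
      rw [CategoryTheory.Functor.map_id, NatTrans.id_app]
      exact Category.id_comp _
    rw [h3]
    exact h
  haveI : IsIso (F.map (ParSh.twistMap I E)) := by
    rw [ParSh.twistMap, F.map_comp]
    infer_instance
  have h2 : F.map (factorThruImageSubobject (ParSh.twistMap I E)) ≫ F.map (ParSh.twistSub I E).arrow =
      F.map (ParSh.twistMap I E) := by
    rw [← F.map_comp]
    exact congrArg F.map (imageSubobject_arrow_comp _)
  haveI : Epi (F.map (factorThruImageSubobject (ParSh.twistMap I E)) ≫ F.map (ParSh.twistSub I E).arrow) := by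
    rw [h2]; infer_instance
  exact epi_of_epi (F.map (factorThruImageSubobject (ParSh.twistMap I E))) _

/-- All the pieces agree with the whole module outside `T`. -/
def AgreeOff (T : Set X) {E : X.Modules} (𝓔 : ParSh.Str E) : Prop :=
  ∀ j x, x ∉ T → IsIso ((DerSch.stalkFunctor X x).map (𝓔.pieceX j).arrow)

/-- A filtration along `I` is trivial away from `I`. -/
theorem agreeOff_of_along (I : X.IdealSheafData) {E : X.Modules} (𝓔 : ParSh.Str E) (h : 𝓔.Along I) :
    AgreeOff (I.support : Set X) 𝓔 := fun j x hI => by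
  haveI := isOn_twistSub I E hI
  have h1 : ParSh.twistSub I E ≤ 𝓔.pieceX j := h ▸ 𝓔.bot_le_pieceX j
  have h2 : (DerSch.stalkFunctor X x).map (Subobject.ofLE _ _ h1) ≫ (DerSch.stalkFunctor X x).map (𝓔.pieceX j).arrow =
      (DerSch.stalkFunctor X x).map (ParSh.twistSub I E).arrow := by
    rw [← Functor.map_comp, Subobject.ofLE_arrow]
  haveI : Epi ((DerSch.stalkFunctor X x).map (Subobject.ofLE _ _ h1) ≫ (DerSch.stalkFunctor X x).map (𝓔.pieceX j).arrow) := by
    rw [h2]; infer_instance
  haveI := epi_of_epi ((DerSch.stalkFunctor X x).map (Subobject.ofLE _ _ h1))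
    ((DerSch.stalkFunctor X x).map (𝓔.pieceX j).arrow)
  exact isIso_of_mono_of_epi _

/-- The extended pieces of an induced filtration. -/
theorem induced_pieceX {E W : X.Modules} (𝓔 : ParSh.Str E) (ι : W ⟶ E) (j : Fin (𝓔.l + 2)) :
    (𝓔.induced ι).pieceX j = (Subobject.pullback ι).obj (𝓔.pieceX j) := by
  induction j using Fin.lastCases with
  | last =>
    rw [𝓔.pieceX_last]
    exact (𝓔.induced ι).pieceX_last
  | cast j =>
    rw [𝓔.pieceX_castSucc]
    exact (𝓔.induced ι).pieceX_castSucc j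

theorem AgreeOff.induced {T : Set X} {E W : X.Modules} {𝓔 : ParSh.Str E} (h : AgreeOff T 𝓔) (ι : W ⟶ E) :
    AgreeOff T (𝓔.induced ι) := fun j x hx => by
  rw [induced_pieceX 𝓔 ι j]
  let F := DerSch.stalkFunctor X x
  haveI := h j x hx
  haveI := Functor.preservesFiniteLimits_of_preservesHomology F
  exact ((Subobject.isPullback ι (𝓔.pieceX j)).map F).isIso_snd_of_isIso

theorem pieceX_succ_le {E : X.Modules} (𝓔 : ParSh.Str E) (j : Fin (𝓔.l + 1)) :
    𝓔.pieceX j.succ ≤ 𝓔.pieceX j.castSucc := by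
  rw [𝓔.pieceX_castSucc]
  induction j using Fin.lastCases with
  | last => rw [𝓔.pieceX_succ_last]; exact 𝓔.bot_le _
  | cast i => rw [𝓔.pieceX_succ_castSucc]; exact 𝓔.piece_anti (Fin.castSucc_lt_succ (i := i)).le

/-- The quotients live on `T`. -/
theorem AgreeOff.support_cokernel {T : Set X} {E : X.Modules} {𝓔 : ParSh.Str E} (h : AgreeOff T 𝓔)
    (hE : Coh.IsQCoh E) (j : Fin (𝓔.l + 2)) (hj : Coh.IsQCoh ((𝓔.pieceX j : Subobject E) : X.Modules)) :
    CohB1.support (cokernel (𝓔.pieceX j).arrow) ⊆ CohB1.support E ∩ T := fun x hx => by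
  refine ⟨QCoh.support_of_epi hE (QCoh.isQCoh_cokernel hj hE _) (cokernel.π _) hx, by_contra fun hI => ?_⟩
  haveI := h j x hI
  exact Snapper.notMem_support_cokernel (𝓔.pieceX j).arrow inferInstance hx

/-- The successive quotients live on `T`. -/
theorem AgreeOff.support_step {T : Set X} {E : X.Modules} {𝓔 : ParSh.Str E} (h : AgreeOff T 𝓔)
    (hE : Coh.IsQCoh E) (j : Fin (𝓔.l + 1)) (hj : Coh.IsQCoh ((𝓔.pieceX j.castSucc : Subobject E) : X.Modules))
    (hj' : Coh.IsQCoh ((𝓔.pieceX j.succ : Subobject E) : X.Modules)) :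
    CohB1.support (cokernel (Subobject.ofLE _ _ (pieceX_succ_le 𝓔 j))) ⊆ CohB1.support E ∩ T := fun x hx => by
  refine ⟨QCoh.mem_support_of_mono hj hE (𝓔.pieceX j.castSucc).arrow
    (QCoh.support_of_epi hj (QCoh.isQCoh_cokernel hj' hj _) (cokernel.π _) hx), by_contra fun hI => ?_⟩
  haveI := h j.castSucc x hI
  haveI := h j.succ x hI
  have h2 : (DerSch.stalkFunctor X x).map (Subobject.ofLE _ _ (pieceX_succ_le 𝓔 j)) ≫
      (DerSch.stalkFunctor X x).map (𝓔.pieceX j.castSucc).arrow =
      (DerSch.stalkFunctor X x).map (𝓔.pieceX j.succ).arrow := by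
    rw [← Functor.map_comp, Subobject.ofLE_arrow]
  haveI : IsIso ((DerSch.stalkFunctor X x).map (Subobject.ofLE _ _ (pieceX_succ_le 𝓔 j))) :=
    IsIso.of_isIso_fac_right h2
  exact Snapper.notMem_support_cokernel _ inferInstance hx

variable (k : Type u) [Field k] [X.Over (Spec (CommRingCat.of k))] [IsProper (X ↘ Spec (CommRingCat.of k))]
  {L : X.Modules}

theorem eq_of_eval_nat {P Q : ℚ[X]} (h : ∀ n : ℕ, P.eval (n : ℚ) = Q.eval (n : ℚ)) : P = Q :=
  Polynomial.eq_of_infinite_eval_eq P Q
    ((Set.infinite_range_of_injective (Nat.cast_injective (R := ℚ))).mono (by rintro _ ⟨n, rfl⟩; exact h n))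

/-- Hilbert polynomials have degree below any bound on the support. -/
theorem degree_lt_of_support (hL : CohB1.IsAmple L) {M : X.Modules} (hM : Coh.IsCoh M) {T : Set X}
    (hMT : CohB1.support M ⊆ T) {d : ℕ} (hd : topologicalKrullDim ↥T < (d : WithBot ℕ∞)) {H : ℚ[X]}
    (hH : ShStab.IsHilbPoly k X L M H) : H.degree < (d : WithBot ℕ) := by
  haveI := CurveCohLib.isNoetherian_of_proper (k := k) (X := X)
  have hdim : topologicalKrullDim ↥(CohB1.support M) < (d : WithBot ℕ∞) :=
    lt_of_le_of_lt ((Topology.IsInducing.subtypeVal.of_comp_iff.1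
      (show Topology.IsInducing (Subtype.val ∘ Set.inclusion hMT) from
        Topology.IsInducing.subtypeVal)).topologicalKrullDim_le) hd
  obtain ⟨Q, hQ, hQn⟩ := Snapper.isPolyLt_of_dim_lt k hL.1 d
    ⟨CohB1.support M, QCoh.isClosed_support_of_isFT hM.1 hM.2⟩ hdim M hM le_rfl
  rwa [eq_of_eval_nat fun n => (hH n).symm.trans (hQn n)]

/-- Hilbert polynomials are eventually nonnegative. -/
theorem eval_nonneg (hL : CohB1.IsAmple L) {M : X.Modules} (hM : Coh.IsCoh M) {H : ℚ[X]}
    (hH : ShStab.IsHilbPoly k X L M H) : ∃ N : ℕ, ∀ n : ℕ, N ≤ n → 0 ≤ H.eval (n : ℚ) := by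
  obtain ⟨N, hN⟩ := AmpleVan.exists_vanishing (A := k) hL hM
  refine ⟨N, fun n hn => ?_⟩
  rw [← hH n, Euler.euler_eq_sum k _ 1 fun i hi => ?_]
  · simp
  · obtain ⟨q, rfl⟩ : ∃ q, i = q + 1 := ⟨i - 1, by omega⟩
    exact hN n hn q

/-- The coefficient just below the bound is nonnegative. -/
theorem coeff_nonneg_of_support (hL : CohB1.IsAmple L) {M : X.Modules} (hM : Coh.IsCoh M) {T : Set X}
    (hMT : CohB1.support M ⊆ T) {d : ℕ} (hd : topologicalKrullDim ↥T < (d : WithBot ℕ∞)) {H : ℚ[X]}
    (hH : ShStab.IsHilbPoly k X L M H) : 0 ≤ H.coeff (d - 1) := by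
  by_contra hneg
  push Not at hneg
  have hdeg := degree_lt_of_support k hL hM hMT hd hH
  have hH0 : H ≠ 0 := fun h => by rw [h] at hneg; simp at hneg
  have h1 : H.natDegree < d := (Polynomial.natDegree_lt_iff_degree_lt hH0).2 hdeg
  have h2 : H.natDegree = d - 1 := le_antisymm (by omega) (Polynomial.le_natDegree_of_ne_zero hneg.ne)
  obtain ⟨N, hN⟩ := eval_nonneg k hL hM hH
  rcases Nat.eq_zero_or_pos H.natDegree with h0 | h0
  · have h3 := hN N le_rfl
    rw [Polynomial.eq_C_of_natDegree_eq_zero h0, Polynomial.eval_C] at h3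
    rw [← h2, h0] at hneg
    linarith
  · have hlead : H.leadingCoeff ≤ 0 := by rw [Polynomial.leadingCoeff, h2]; exact hneg.le
    have ht := (H.tendsto_atBot_of_leadingCoeff_nonpos
      (Polynomial.natDegree_pos_iff_degree_pos.1 h0) hlead).comp tendsto_natCast_atTop_atTop
    obtain ⟨n, hn, hn'⟩ := ((ht.eventually (Filter.eventually_lt_atBot 0)).and (Filter.eventually_ge_atTop N)).exists
    exact absurd (hN n hn') (not_le.2 hn)

/-- The Hilbert polynomial of a piece and of the quotient. -/
theorem hilb_cokernel (hL : CohB1.IsAmple L) {A E : X.Modules} (f : A ⟶ E) [Mono f] (hA : Coh.IsCoh A)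
    (hE : Coh.IsCoh E) {P Q : ℚ[X]} (hP : ShStab.IsHilbPoly k X L E P) (hQ : ShStab.IsHilbPoly k X L A Q) :
    ShStab.IsHilbPoly k X L (cokernel f) (P - Q) := fun m => by
  haveI := CurveCohLib.isNoetherian_of_proper (k := k) (X := X)
  have h := euler_twist_add k (T := ShortComplex.mk f (cokernel.π f) (cokernel.condition _))
    { exact := ShortComplex.exact_cokernel _, mono_f := inferInstance, epi_g := inferInstance }
    hA hE (QCoh.isCoh_cokernel hA.1 hE _) hL.1 m
  dsimp only at h
  rw [Polynomial.eval_sub, ← hP m, ← hQ m, h]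
  push_cast
  ring

/-- Pieces of an induced filtration are coherent. -/
theorem isCoh_induced {E W : X.Modules} (hE : Coh.IsCoh E) (hW : Coh.IsCoh W) (𝓔 : ParSh.Str E) (ι : W ⟶ E)
    [Mono ι] (hcoh : ∀ j, Coh.IsCoh ((𝓔.pieceX j : Subobject E) : X.Modules)) (j : Fin (𝓔.l + 2))
    [IsLocallyNoetherian X] :
    Coh.IsCoh (((𝓔.induced ι).pieceX j : Subobject W) : X.Modules) := by
  rw [induced_pieceX 𝓔 ι j]
  let S : ShortComplex X.Modules := ShortComplex.mk ι (cokernel.π ι) (cokernel.condition _)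
  have hS : S.ShortExact := { exact := ShortComplex.exact_cokernel _, mono_f := ‹_›, epi_g := inferInstance }
  obtain ⟨w, hT⟩ := shortExact_pullback_image hS (𝓔.pieceX j)
  exact (isCoh_parts _ ((𝓔.pieceX j).arrow ≫ cokernel.π ι) (hcoh j) (QCoh.isCoh_cokernel hW.1 hE ι) w hT).1

end Groth.Agent.ParShLib
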