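import Groth.Agent.ParShLib.FibD
import Groth.Agent.Lib.CurveEnd

/-!
# Generalized parabolic degree along morphisms
-/

set_option autoImplicit false
set_option linter.style.haveILetI false
set_option linter.unusedSectionVars false

universe u
open CategoryTheory CategoryTheory.Limits AlgebraicGeometry TopologicalSpace Opposite
open scoped TensorProduct

namespace Groth.Agent.ParShLib

variable (k : Type u) [Field k] {X : Scheme.{u}} [X.Over (Spec (CommRingCat.of k))]
  [IsIntegral X] [IsProper (X ↘ Spec (CommRingCat.of k))] (hdim : topologicalKrullDim X = 1)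
  (I : X.IdealSheafData) (hD : FGA.IsEffCartier I)

attribute [local instance] CurveCohLib.stalkModuleK

theorem stkMap_comp {A B C : X.Modules} (f : A ⟶ B) (g : B ⟶ C) (x : X) :
    stkMap (f ≫ g) x = stkMap g x ∘ₗ stkMap f x := by
  show ((DerSch.stalkFunctor X x).map (f ≫ g)).hom = _
  rw [Functor.map_comp]
  rfl

theorem stkMap_resD_comp {A B C : X.Modules} (f : A ⟶ B) (g : B ⟶ C) (x : X) (a : stk (ParSh.resD I A) x) :
    stkMap (ParSh.resDMap I (f ≫ g)) x a = stkMap (ParSh.resDMap I g) x (stkMap (ParSh.resDMap I f) x a) := by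
  apply (resStalk I C x).injective
  rw [resStalk_naturality, resStalk_naturality, resStalk_naturality, stkMap_comp, LinearMap.rTensor_comp]
  rfl

include k hdim hD in
theorem fibDMap_comp {A B C : X.Modules} (hA : Coh.IsCoh A) (hB : Coh.IsCoh B) (hC : Coh.IsCoh C)
    (f : A ⟶ B) (g : B ⟶ C) (t : ParSh.fibD X I A) :
    ParSh.fibDMap k X I (f ≫ g) t = ParSh.fibDMap k X I g (ParSh.fibDMap k X I f t) := by
  let S := (finite_support k hdim I hD).toFinset
  have hS : (I.support : Set X) ⊆ S := (Set.Finite.coe_toFinset _).ge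
  obtain ⟨eA, heA⟩ := exists_fibEquiv k hdim I hD hA S hS
  obtain ⟨eB, heB⟩ := exists_fibEquiv k hdim I hD hB S hS
  obtain ⟨eC, heC⟩ := exists_fibEquiv k hdim I hD hC S hS
  refine eC.injective (funext fun x => ?_)
  rw [fibEquiv_natural k I _ S eA heA eC heC, fibEquiv_natural k I _ S eB heB eC heC,
    fibEquiv_natural k I _ S eA heA eB heB, stkMap_resD_comp]

include k hdim hD in
theorem ker_fibDMap_le_range {A B C : X.Modules} (hA : Coh.IsCoh A) (hB : Coh.IsCoh B) (hC : Coh.IsCoh C)
    (f : A ⟶ B) (g : B ⟶ C) (w : f ≫ g = 0) (hS : (ShortComplex.mk f g w).ShortExact) :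
    LinearMap.ker (ParSh.fibDMap k X I g) ≤ LinearMap.range (ParSh.fibDMap k X I f) := by
  intro t ht
  let S := (finite_support k hdim I hD).toFinset
  have hSS : (I.support : Set X) ⊆ S := (Set.Finite.coe_toFinset _).ge
  obtain ⟨eA, heA⟩ := exists_fibEquiv k hdim I hD hA S hSS
  obtain ⟨eB, heB⟩ := exists_fibEquiv k hdim I hD hB S hSS
  obtain ⟨eC, heC⟩ := exists_fibEquiv k hdim I hD hC S hSS
  have key : ∀ x : S, ∃ a : stk (ParSh.resD I A) x.1, stkMap (ParSh.resDMap I f) x.1 a = eB t x := by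
    intro x
    have h0 : stkMap (ParSh.resDMap I g) x.1 (eB t x) = 0 := by
      rw [← fibEquiv_natural k I g S eB heB eC heC, LinearMap.mem_ker.1 ht, map_zero]
      rfl
    have hx := (KFlatLib.shortExact_iff_stalk _).1 hS x.1
    have hex : Function.Exact (stkMap f x.1) (stkMap g x.1) :=
      (ShortComplex.ShortExact.moduleCat_exact_iff_function_exact _).1 hx.exact
    have hsurj : Function.Surjective (stkMap g x.1) := hx.moduleCat_surjective_g
    have h1 : LinearMap.rTensor _ (stkMap g x.1) (resStalk I B x.1 (eB t x)) = 0 := by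
      rw [← resStalk_naturality, h0, map_zero]
    obtain ⟨y, hy⟩ := (rTensor_exact (stk (ClSub.quotMod I) x.1) hex hsurj _).1 h1
    refine ⟨(resStalk I A x.1).symm y, (resStalk I B x.1).injective ?_⟩
    rw [resStalk_naturality, LinearEquiv.apply_symm_apply, hy]
  choose a ha using key
  refine ⟨eA.symm a, eB.injective (funext fun x => ?_)⟩
  rw [fibEquiv_natural k I f S eA heA eB heB, LinearEquiv.apply_symm_apply, ha]

include k hdim hD in
theorem finite_fibD {A : X.Modules} (hA : Coh.IsCoh A) : Module.Finite k (ParSh.fibD X I A) :=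
  haveI := CurveCohLib.isNoetherian' (k := k) (X := X)
  CurveCohLib.finite_HH (isCoh_resD I hA) 0

include k hdim hD in
theorem gpDeg_le_of_mono {E F : X.Modules} (f : E ⟶ F) [Mono f] {n : ℕ} (hE : FlatMod.IsFinLocFreeOfRank n E)
    (hF : FlatMod.IsFinLocFreeOfRank n F) (α : ℝ) (hα0 : 0 ≤ α) (hα1 : α < 1)
    (F₁ : Submodule k (ParSh.fibD X I E)) (F₁' : Submodule k (ParSh.fibD X I F))
    (hf : ParSh.IsGPHom k X I F₁ F₁' f) :
    ParSh.gpDeg k X α E F₁ n ≤ ParSh.gpDeg k X α F F₁' n ∧
      (ParSh.gpDeg k X α E F₁ n = ParSh.gpDeg k X α F F₁' n ↔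
        (IsIso f ∧ (0 < α → Submodule.map (ParSh.fibDMap k X I f) F₁ = F₁'))) := by
  obtain ⟨hEf, hFf, hker⟩ := finrank_ker_fibDMap_le k hdim I hD f hE hF
  haveI := hEf; haveI := hFf
  obtain ⟨-, hiso⟩ := CurveCohLib.deg_le_of_mono k hdim f hE hF
  set φ := ParSh.fibDMap k X I f
  have hmap : Submodule.map φ F₁ ≤ F₁' := hf
  have h1 : Module.finrank k F₁ ≤ Module.finrank k (Submodule.map φ F₁) + Module.finrank k (LinearMap.ker φ) := by
    have h := LinearMap.finrank_range_add_finrank_ker (φ ∘ₗ F₁.subtype)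
    rw [LinearMap.range_comp, Submodule.range_subtype] at h
    have h' : Module.finrank k (LinearMap.ker (φ ∘ₗ F₁.subtype)) ≤ Module.finrank k (LinearMap.ker φ) :=
      LinearMap.finrank_le_finrank_of_injective
        (f := (F₁.subtype ∘ₗ (LinearMap.ker (φ ∘ₗ F₁.subtype)).subtype).codRestrict (LinearMap.ker φ)
          fun t => t.2)
        fun a b hab => Subtype.ext (Subtype.ext (congrArg (fun v => (v.1 : ParSh.fibD X I E)) hab))
    omega
  have h2 := Submodule.finrank_mono hmap
  unfold ParSh.gpDeg ParSh.gpWt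
  set dE := Curv2.deg k X E n
  set dF := Curv2.deg k X F n
  set d1 := Module.finrank k F₁
  set d2 := Module.finrank k F₁'
  set dm := Module.finrank k (Submodule.map φ F₁)
  set dk := Module.finrank k (LinearMap.ker φ)
  have hk' : (dk : ℝ) ≤ (dF : ℝ) - dE := by
    have : ((dk : ℤ) : ℝ) ≤ ((dF - dE : ℤ) : ℝ) := Int.cast_le.2 hker
    push_cast at this
    exact this
  have h1' : (d1 : ℝ) ≤ dm + dk := by exact_mod_cast h1
  have h2' : (dm : ℝ) ≤ d2 := by exact_mod_cast h2
  have e1 : α * (d1 : ℝ) ≤ α * d2 + α * ((dF : ℝ) - dE) := by nlinarith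
  have e2 : α * ((dF : ℝ) - dE) ≤ (dF : ℝ) - dE := by nlinarith
  refine ⟨by linarith, fun heq => ?_, fun ⟨hi, hmapeq⟩ => ?_⟩
  · have hd : (dF : ℝ) = dE := by nlinarith
    have hde : dE = dF := by exact_mod_cast hd.symm
    refine ⟨hiso.1 hde, fun hpos => Submodule.eq_of_le_of_finrank_le hmap ?_⟩
    have : (d2 : ℝ) ≤ dm + dk := by
      have h : α * (d2 : ℝ) ≤ α * (d1 : ℝ) := by linarith
      exact (le_of_mul_le_mul_left h hpos).trans h1'
    have hk0 : (dk : ℝ) ≤ 0 := by linarith
    exact_mod_cast (by linarith : (d2 : ℝ) ≤ dm)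
  · have hde : dE = dF := hiso.2 hi
    rcases hα0.eq_or_lt with h0 | hpos
    · rw [← h0, hde]; ring
    · have hm : dm ≤ d1 := Submodule.finrank_map_le φ F₁
      have hdm : dm = d2 := by rw [show dm = Module.finrank k (Submodule.map φ F₁) from rfl, hmapeq hpos]
      have hdk : dk = 0 := by omega
      have : d1 = d2 := by omega
      rw [hde, this]

include k hdim hD in
theorem finrank_le_induced {A B C : X.Modules} {D : X.Modules} (hA : Coh.IsCoh A) (hB : Coh.IsCoh B)
    (hC : Coh.IsCoh C) (hD' : Coh.IsCoh D) (f : A ⟶ B) (g : B ⟶ C) (w : f ≫ g = 0)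
    (hS : (ShortComplex.mk f g w).ShortExact) (j : C ⟶ D) (φ : B ⟶ D) (hφ : g ≫ j = φ)
    (F₁ : Submodule k (ParSh.fibD X I B)) (F₁' : Submodule k (ParSh.fibD X I D))
    (hf : ParSh.IsGPHom k X I F₁ F₁' φ) :
    Module.finrank k F₁ ≤ Module.finrank k (ParSh.gpInduced k X I f F₁) +
      Module.finrank k (ParSh.gpInduced k X I j F₁') := by
  haveI := finite_fibD k hdim I hD hA
  haveI := finite_fibD k hdim I hD hB
  haveI := finite_fibD k hdim I hD hC
  let π := ParSh.fibDMap k X I g
  let ι := ParSh.fibDMap k X I f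
  have h := LinearMap.finrank_range_add_finrank_ker (π ∘ₗ F₁.subtype)
  rw [LinearMap.range_comp, Submodule.range_subtype] at h
  have hq : Submodule.map π F₁ ≤ ParSh.gpInduced k X I j F₁' := by
    rintro _ ⟨t, ht, rfl⟩
    refine Submodule.mem_comap.2 ?_
    have e := fibDMap_comp k hdim I hD hB hC hD' g j t
    rw [hφ] at e
    exact (congrArg (fun z => z ∈ F₁') e).mp (hf (Submodule.mem_map_of_mem ht))
  have hk : Submodule.map F₁.subtype (LinearMap.ker (π ∘ₗ F₁.subtype)) ≤
      Submodule.map ι (ParSh.gpInduced k X I f F₁) := by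
    rintro _ ⟨t, ht, rfl⟩
    obtain ⟨a, ha⟩ := ker_fibDMap_le_range k hdim I hD hA hB hC f g w hS (LinearMap.mem_ker.2 ht)
    exact ⟨a, show ParSh.fibDMap k X I f a ∈ F₁ from ha ▸ t.2, ha⟩
  have e := (Submodule.equivMapOfInjective F₁.subtype Subtype.val_injective
    (LinearMap.ker (π ∘ₗ F₁.subtype))).finrank_eq
  have h2 := Submodule.finrank_mono hq
  have h3 := Submodule.finrank_mono hk
  have h4 := Submodule.finrank_map_le ι (ParSh.gpInduced k X I f F₁)
  omega

theorem stkMap_sub {A B : X.Modules} (f g : A ⟶ B) (x : X) : stkMap (f - g) x = stkMap f x - stkMap g x := by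
  show ((DerSch.stalkFunctor X x).map (f - g)).hom = _
  rw [Functor.map_sub]
  rfl

theorem stkMap_smulMod {E : X.Modules} (c : k) (x : X) (a : stk E x) :
    stkMap (CurveEnd.smulMod E (Coh.toGlobal (X ↘ Spec (CommRingCat.of k)) c)) x a = Curv2.stalkMap k X x c • a := by
  obtain ⟨U, hxU, s, rfl⟩ := E.presheaf.exists_germ_eq a
  rw [stkMap_germ, CurveEnd.smulMod_app]
  refine (QCoh.germ_smul' E hxU _ _).trans (congrArg (· • _) ?_)
  exact X.presheaf.germ_res_apply (homOfLE le_top) x hxU _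

include k hdim hD in
theorem isGPHom_sub_scalar {E : X.Modules} (hE : Coh.IsCoh E) (F₁ : Submodule k (ParSh.fibD X I E)) (f : E ⟶ E)
    (hf : ParSh.IsGPHom k X I F₁ F₁ f) (c : k) :
    ParSh.IsGPHom k X I F₁ F₁ (f - CurveEnd.smulMod E (Coh.toGlobal (X ↘ Spec (CommRingCat.of k)) c)) := by
  let S := (finite_support k hdim I hD).toFinset
  have hS : (I.support : Set X) ⊆ S := (Set.Finite.coe_toFinset _).ge
  obtain ⟨e, he⟩ := exists_fibEquiv k hdim I hD hE S hS
  rintro _ ⟨t, ht, rfl⟩
  have key : ParSh.fibDMap k X I (f - CurveEnd.smulMod E (Coh.toGlobal (X ↘ Spec (CommRingCat.of k)) c)) t =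
      ParSh.fibDMap k X I f t - c • t := by
    refine e.injective (funext fun x => ?_)
    rw [fibEquiv_natural k I _ S e he e he, map_sub, map_smul, Pi.sub_apply, Pi.smul_apply,
      fibEquiv_natural k I _ S e he e he]
    apply (resStalk I E x.1).injective
    rw [resStalk_naturality, stkMap_sub, map_sub]
    refine Eq.trans ?_ (congrArg₂ (· - ·) (resStalk_naturality I f x.1 _).symm
      (map_smul (resStalk I E x.1) (Curv2.stalkMap k X x.1 c) _).symm)
    have hc : stkMap (CurveEnd.smulMod E (Coh.toGlobal (X ↘ Spec (CommRingCat.of k)) c)) x.1 =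
        Curv2.stalkMap k X x.1 c • LinearMap.id := LinearMap.ext fun a => stkMap_smulMod k c x.1 a
    rw [LinearMap.rTensor_sub, LinearMap.sub_apply, hc, LinearMap.rTensor_smul, LinearMap.rTensor_id,
      LinearMap.smul_apply, LinearMap.id_apply]
  rw [key]
  exact F₁.sub_mem (hf ⟨t, ht, rfl⟩) (F₁.smul_mem c ht)

end Groth.Agent.ParShLib
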