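import Groth.Agent.ParShLib.SkySub
import Groth.Agent.ParShLib.Degree
import Groth.Agent.ParShLib.GP
import Groth.Agent.CurveCohLib.Stable
import Groth.Agent.Lib.CurvePoint
import Groth.Agent.KFlatLib.Scheme.ProjModule

/-!
# Structures along a divisor on a curve: reduction to the divisor, coherence of the pieces
-/

set_option autoImplicit false
set_option linter.style.haveILetI false
set_option linter.unusedSectionVars false
set_option maxHeartbeats 800000
set_option backward.isDefEq.respectTransparency false
set_option backward.isDefEq.respectTransparency.types false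

universe u
open CategoryTheory CategoryTheory.Limits AlgebraicGeometry TopologicalSpace
open scoped MonoidalCategory

namespace Groth.Agent.ParShLib

variable {X : Scheme.{u}} (I : X.IdealSheafData)

/-- Reduction `E ⟶ E ⊗ O_D`. -/
noncomputable def red (E : X.Modules) : E ⟶ ParSh.resD I E :=
  (SecTwist.unitorR E).inv ≫ KoszTw.tensorMap (𝟙 E) (ClSub.toSubscheme I)

theorem tensorMap_id_left (E : X.Modules) {A B : X.Modules} (g : A ⟶ B) :
    KoszTw.tensorMap (𝟙 E) g = (DCoh.tensorBi.obj E).map g := by
  unfold KoszTw.tensorMap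
  rw [CategoryTheory.Functor.map_id, NatTrans.id_app]
  exact Category.id_comp _

theorem tensorMap_id_right (C : X.Modules) {A B : X.Modules} (f : A ⟶ B) :
    KoszTw.tensorMap f (𝟙 C) = (DCoh.tensorBi.map f).app C := (KoszTw.tensorBi_map_app f C).symm

theorem tensorLeft_exact (E : X.Modules) :
    ∃ w : (DCoh.tensorBi.obj E).map (ClSub.idealModι I) ≫ (DCoh.tensorBi.obj E).map (ClSub.toSubscheme I) = 0,
      (ShortComplex.mk _ _ w).Exact ∧ Epi ((DCoh.tensorBi.obj E).map (ClSub.toSubscheme I)) := by
  haveI : PreservesColimitsOfSize.{u, u} (DCoh.tensorBi.obj E) := ⟨fun {K} _ => inferInstance⟩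
  haveI : PreservesColimitsOfSize.{0, 0} (DCoh.tensorBi.obj E) := preservesColimitsOfSize_shrink.{0, u, 0, u} _
  haveI : PreservesBinaryBiproducts (DCoh.tensorBi.obj E) := preservesBinaryBiproducts_of_preservesBinaryCoproducts _
  haveI : (DCoh.tensorBi.obj E).Additive := Functor.additive_of_preservesBinaryBiproducts _
  have w0 : ClSub.idealModι I ≫ ClSub.toSubscheme I = 0 := kernel.condition _
  haveI := CurvePoint.epi_toSubscheme I
  exact ⟨_, ShortComplex.Exact.map_of_epi_of_preservesCokernel
    (S := ShortComplex.mk (ClSub.idealModι I) (ClSub.toSubscheme I) w0)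
    (ShortComplex.exact_of_f_is_kernel _ (kernelIsKernel _)) (DCoh.tensorBi.obj E) inferInstance inferInstance,
    inferInstance⟩

theorem unitorR_naturality {E F : X.Modules} (f : E ⟶ F) :
    KoszTw.tensorMap f (𝟙 (Coh.structureModule X)) ≫ (SecTwist.unitorR F).hom = (SecTwist.unitorR E).hom ≫ f := by
  let adj := PresheafOfModules.sheafificationAdjunction.{u, u, u, u}
    (J := Opens.grothendieckTopology X) (𝟙 X.ringCatSheaf.obj)
  have h1 : (DCoh.toP.map f ⊗ₘ DCoh.toP.map (𝟙 (Coh.structureModule X)) :
      CohB1.tensorPre E (Coh.structureModule X) ⟶ CohB1.tensorPre F (Coh.structureModule X)) ≫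
        (SecTwist.unitorPre F).hom = (SecTwist.unitorPre E).hom ≫ DCoh.toP.map f := by
    rw [CategoryTheory.Functor.map_id]
    exact (congrArg (· ≫ _) (MonoidalCategory.tensorHom_id (DCoh.toP.map f) _)).trans
      (MonoidalCategory.rightUnitor_naturality (DCoh.toP.map f))
  rw [KoszTw.tensorMap_eq_sheafify, SecTwist.unitorR, SecTwist.unitorR]
  simp only [Iso.trans_hom, Functor.mapIso_hom, Category.assoc]
  rw [← Functor.map_comp_assoc]
  refine (congrArg (fun t => (CohB1.sheafifyMod X).map t ≫ _) h1).trans ?_
  rw [Functor.map_comp, Category.assoc]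
  exact congrArg (_ ≫ ·) (adj.counit.naturality f)

/-- Reduction to the divisor is natural. -/
theorem red_naturality {E F : X.Modules} (f : E ⟶ F) :
    red I E ≫ ParSh.resDMap I f = f ≫ red I F := by
  have h : f ≫ (SecTwist.unitorR F).inv =
      (SecTwist.unitorR E).inv ≫ KoszTw.tensorMap f (𝟙 (Coh.structureModule X)) := by
    rw [Iso.comp_inv_eq, Category.assoc, unitorR_naturality, Iso.inv_hom_id_assoc]
  rw [red, red, ← Category.assoc f, h, Category.assoc, Category.assoc,
    ← KoszTw.tensorMap_comp, ← KoszTw.tensorMap_comp]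
  simp

/-- The multiplication map is natural. -/
theorem twistMap_naturality {E F : X.Modules} (f : E ⟶ F) :
    KoszTw.tensorMap f (𝟙 (ClSub.idealMod I)) ≫ ParSh.twistMap I F = ParSh.twistMap I E ≫ f := by
  rw [ParSh.twistMap, ParSh.twistMap, Category.assoc, ← unitorR_naturality, ← Category.assoc, ← Category.assoc,
    ← KoszTw.tensorMap_comp, ← KoszTw.tensorMap_comp]
  simp

theorem epi_red (E : X.Modules) : Epi (red I E) := by
  obtain ⟨_, _, h⟩ := tensorLeft_exact I E
  haveI := h
  rw [red, tensorMap_id_left]
  exact epi_comp _ _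

theorem red_exact (E : X.Modules) :
    ∃ w : ParSh.twistMap I E ≫ red I E = 0, (ShortComplex.mk _ _ w).Exact := by
  obtain ⟨w, h, _⟩ := tensorLeft_exact I E
  have hw : ParSh.twistMap I E ≫ red I E = 0 := by
    rw [ParSh.twistMap, red, Category.assoc, Iso.hom_inv_id_assoc, tensorMap_id_left, tensorMap_id_left]
    exact w
  refine ⟨hw, (ShortComplex.exact_iff_of_iso (S₁ := ShortComplex.mk _ _ w) (S₂ := ShortComplex.mk _ _ hw)
    (ShortComplex.isoMk (Iso.refl _) (SecTwist.unitorR E) (Iso.refl _) ?_ ?_)).1 h⟩
  · simp only [Iso.refl_hom, Category.id_comp, ParSh.twistMap, tensorMap_id_left]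
  · simp only [Iso.refl_hom, Category.comp_id, red, tensorMap_id_left, Iso.hom_inv_id_assoc]

/-- `I · E` is the kernel of the reduction to the divisor. -/
theorem twistSub_eq_kernel (E : X.Modules) : ParSh.twistSub I E = kernelSubobject (red I E) := by
  obtain ⟨w, h⟩ := red_exact I E
  exact (ShortComplex.exact_iff_image_eq_kernel _).1 h

theorem pullback_kernelSubobject {C : Type*} [Category C] [Abelian C] {A B Q : C} (i : A ⟶ B) (g : B ⟶ Q) :
    (Subobject.pullback i).obj (kernelSubobject g) = kernelSubobject (i ≫ g) := by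
  refine le_antisymm (le_kernelSubobject _ _ ?_) ?_
  · rw [← Category.assoc, ← (Subobject.isPullback i (kernelSubobject g)).w, Category.assoc,
      kernelSubobject_arrow_comp, comp_zero]
  · refine Subobject.le_of_comm ((Subobject.isPullback i (kernelSubobject g)).lift
      (factorThruKernelSubobject g ((kernelSubobject (i ≫ g)).arrow ≫ i)
        (by rw [Category.assoc, kernelSubobject_arrow_comp])) (kernelSubobject (i ≫ g)).arrow
      (factorThruKernelSubobject_comp_arrow _ _ _)) ?_
    exact IsPullback.lift_snd _ _ _ _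

theorem imageSubobject_epi_comp' {C : Type*} [Category C] [Abelian C] {A B D : C} (e : A ⟶ B) [Epi e] (g : B ⟶ D) :
    imageSubobject (e ≫ g) = imageSubobject g := by
  refine le_antisymm (imageSubobject_comp_le e g) ?_
  haveI : IsIso (image.preComp e g) := isIso_of_mono_of_epi _
  exact Subobject.mk_le_mk_of_comm (inv (image.preComp e g)) (by simp)

/-- Quotients: the image of `I · E` is `I · V`. -/
theorem image_twistSub {E V : X.Modules} (q : E ⟶ V) [Epi q] :
    imageSubobject ((ParSh.twistSub I E).arrow ≫ q) = ParSh.twistSub I V := by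
  haveI : Epi (KoszTw.tensorMap q (𝟙 (ClSub.idealMod I))) := by
    rw [tensorMap_id_right]
    haveI : PreservesColimitsOfSize.{u, u} ((DCoh.tensorBi (X := X)).flip.obj (ClSub.idealMod I)) :=
      ⟨fun {K} _ => inferInstance⟩
    haveI : PreservesColimitsOfSize.{0, 0} ((DCoh.tensorBi (X := X)).flip.obj (ClSub.idealMod I)) :=
      preservesColimitsOfSize_shrink.{0, u, 0, u} _
    exact inferInstanceAs (Epi (((DCoh.tensorBi (X := X)).flip.obj (ClSub.idealMod I)).map q))
  have h1 : ∀ {A B C : X.Modules} (e : A ⟶ B) [Epi e] (g : B ⟶ C), imageSubobject (e ≫ g) = imageSubobject g :=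
    fun e _ g => imageSubobject_epi_comp' e g
  unfold ParSh.twistSub
  rw [← h1 (factorThruImageSubobject (ParSh.twistMap I E)), imageSubobject_arrow_comp_assoc,
    ← twistMap_naturality, h1]

end Groth.Agent.ParShLib
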