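import Groth.Agent.QCoh.ExtendFT
import Groth.Agent.CurveCohLib.Skyscraper
import Groth.Agent.KFlatLib.Scheme.CohD

/-!
# Submodules of coherent sheaves with finite support
-/

set_option autoImplicit false
set_option linter.style.haveILetI false
set_option linter.unusedSectionVars false
set_option maxHeartbeats 800000

universe u
open CategoryTheory CategoryTheory.Limits AlgebraicGeometry TopologicalSpace Opposite

namespace Groth.Agent.ParShLib

open Groth.Agent.QCoh

variable {X : Scheme.{u}}

theorem section_eq_of_germs {G : X.Modules} {O : X.Opens} (s t : Γ(G, O))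
    (h : ∀ y (hy : y ∈ O), G.presheaf.germ O y hy s = G.presheaf.germ O y hy t) : s = t :=
  TopCat.Presheaf.section_ext (⟨G.presheaf, G.isSheaf⟩ : TopCat.Sheaf Ab X.toTopCat) O _ _ h

/-- Any submodule of a coherent sheaf supported at finitely many closed points is coherent. -/
theorem isCoh_of_mono_finite_support [IsNoetherian X] {A G : X.Modules} (j : A ⟶ G) [Mono j] (hG : Coh.IsCoh G)
    (hcl : ∀ x ∈ CohB1.support G, IsClosed ({x} : Set X)) (hfin : (CohB1.support G).Finite) : Coh.IsCoh A := by
  classical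
  let N : SubMod G := kerSub (cokernel.π j)
  have hN : FTOn N ⊤ := fun x _ => by
    let W : X.Opens := ⟨(CohB1.support G \ {x})ᶜ, isOpen_compl_iff.2 (by
      rw [← Set.biUnion_of_singleton (CohB1.support G \ {x})]
      exact (hfin.subset Set.sdiff_subset).isClosed_biUnion fun y hy => hcl y hy.1)⟩
    obtain ⟨_, ⟨V, hV, rfl⟩, hxV, hVW⟩ :=
      X.isBasis_affineOpens.exists_subset_of_mem_open (show x ∈ W from fun h => h.2 rfl) W.2
    have hoff : ∀ y ∈ V, y ≠ x → y ∉ CohB1.support G := fun y hy hne h => hVW hy ⟨h, hne⟩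
    haveI := QCoh.finite_sections hG hV
    haveI : IsNoetherianRing Γ(X, V) := IsLocallyNoetherian.component_noetherian ⟨V, hV⟩
    obtain ⟨T, hT⟩ := IsNoetherian.noetherian (N.mem V)
    refine ⟨V, hV, hxV, le_top, (T : Set Γ(G, V)), T.finite_toSet,
      fun t ht => hT ▸ Submodule.subset_span ht, fun O hO s hs y hy => ⟨O, le_rfl, hy, ?_⟩⟩
    rw [rs_self]
    by_cases hx : x ∈ O ∧ x ∈ CohB1.support G
    · obtain ⟨σ, hσ, hσ0⟩ := CurveCohLib.exists_section_single hG hcl hx.2 (G.presheaf.germ O x hx.1 s)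
      have hs' : s = rs G hO (rs G le_top σ) := section_eq_of_germs _ _ fun z hz => by
        rw [rs_rs, rs, G.presheaf.germ_res_apply]
        by_cases hzx : z = x
        · subst hzx; exact hσ.symm
        · exact (CurveCohLib.germ_eq_zero_of_notMem_support s hz (hoff z (hO hz) hzx)).trans (hσ0 z hzx).symm
      have hmem : rs G le_top σ ∈ N.mem V := N.of_locally V _ fun z hz => by
        by_cases hzx : z = x
        · exact ⟨O, hO, hzx ▸ hx.1, by rw [← rs, ← hs']; exact hs⟩
        · refine ⟨V ⊓ ⟨({x} : Set X)ᶜ, (hcl x hx.2).isOpen_compl⟩, inf_le_left, ⟨hz, hzx⟩, ?_⟩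
          have h0 : rs G (inf_le_left : V ⊓ ⟨({x} : Set X)ᶜ, (hcl x hx.2).isOpen_compl⟩ ≤ V) (rs G le_top σ) = 0 :=
            section_eq_of_germs _ _ fun w hw => by
              rw [map_zero]
              exact CurveCohLib.germ_eq_zero_of_notMem_support _ hw (hoff w hw.1 hw.2)
          rw [← rs, h0]
          exact zero_mem _
      rw [← hT] at hmem
      rw [hs']
      exact rs_mem_span hO hmem
    · have h0 : s = 0 := section_eq_of_germs _ _ fun z hz => by
        rw [map_zero]
        refine CurveCohLib.germ_eq_zero_of_notMem_support _ hz ?_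
        by_cases hzx : z = x
        · subst hzx; exact fun h => hx ⟨hz, h⟩
        · exact hoff z (hO hz) hzx
      rw [h0]
      exact zero_mem _
  have h1 : N.ι ≫ cokernel.π j = 0 := by
    refine Scheme.Modules.hom_ext _ _ fun O => ?_
    ext t
    exact N.ι_app_mem O t
  have h2 : j ≫ cokernel.π N.ι = 0 := by
    refine Scheme.Modules.hom_ext _ _ fun O => ?_
    ext g
    show (cokernel.π N.ι).app O (j.app O g) = 0
    rw [mem_range_iff_cokernel]
    have hm : j.app O g ∈ N.mem O := by
      show (cokernel.π j).app O (j.app O g) = 0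
      rw [mem_range_iff_cokernel]
      exact ⟨g, rfl⟩
    obtain ⟨t, ht⟩ := N.exists_app_eq hm
    exact ⟨t, ht⟩
  let e : N.toModules ≅ A := ⟨Abelian.monoLift j N.ι h1, Abelian.monoLift N.ι j h2,
    by rw [← cancel_mono N.ι, Category.assoc, Abelian.monoLift_comp, Abelian.monoLift_comp, Category.id_comp],
    by rw [← cancel_mono j, Category.assoc, Abelian.monoLift_comp, Abelian.monoLift_comp, Category.id_comp]⟩
  exact KFlatLib.isCoh_of_iso e
    (QCoh.isCoh_iff.2 ⟨isQCoh_of_ftOn hG.1 hN, fun U => QCoh.finite_of_isFT (isQCoh_of_ftOn hG.1 hN)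
      (isFT_of_ftOn hG.1 hN) U.2⟩)

end Groth.Agent.ParShLib
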