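import Groth.Prelude.Def_ParBun
import Mathlib.MeasureTheory.Integral.IntervalIntegral.Basic

/-!
# The weight term as the integral of the real filtration
-/

set_option autoImplicit false
set_option linter.style.haveILetI false
set_option linter.unusedSectionVars false
set_option maxHeartbeats 800000

universe v u
open CategoryTheory CategoryTheory.Limits MeasureTheory Set

namespace Groth.Agent.ParShLib

variable {C : Type u} [Category.{v} C]

theorem sum_Ici_telescope : ∀ {n : ℕ} (f : Fin (n + 2) → ℝ) (j₀ : Fin (n + 1)),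
    (∑ j ∈ Finset.univ.filter (j₀ ≤ ·), (f j.castSucc - f j.succ)) = f j₀.castSucc - f (Fin.last (n + 1)) := by
  intro n f j₀
  induction j₀ using Fin.reverseInduction with
  | last =>
    rw [show Finset.univ.filter (Fin.last n ≤ ·) = {Fin.last n} from Finset.ext fun j => by
      simp [Fin.last_le_iff], Finset.sum_singleton, Fin.succ_last]
  | cast i ih =>
    rw [show Finset.univ.filter (i.castSucc ≤ ·) = insert i.castSucc (Finset.univ.filter (i.succ ≤ ·)) from
      Finset.ext fun j => by simp [Fin.le_iff_val_le_val, Fin.ext_iff]; omega,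
      Finset.sum_insert (by simp [Fin.le_iff_val_le_val]), ih, Fin.succ_castSucc]
    ring

section At

variable [HasImages C] [HasBinaryCoproducts C] [HasInitial C] [InitialMonoClass C]

theorem at_cases {E : C} (𝓔 : ParSh.Str E) (a : ℝ) :
    (∃ j, a ≤ 𝓔.wt j ∧ ∀ j' < j, 𝓔.wt j' < a) ∨ ∀ j, 𝓔.wt j < a := by
  classical
  by_cases h : ∃ j, a ≤ 𝓔.wt j
  · have hne : (Finset.univ.filter fun j => a ≤ 𝓔.wt j).Nonempty := by
      obtain ⟨j, hj⟩ := h
      exact ⟨j, Finset.mem_filter.2 ⟨Finset.mem_univ _, hj⟩⟩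
    refine .inl ⟨_, (Finset.mem_filter.1 (Finset.min'_mem _ hne)).2, fun j' hj' => not_le.1 fun hc => ?_⟩
    exact absurd (Finset.min'_le _ j' (Finset.mem_filter.2 ⟨Finset.mem_univ _, hc⟩)) (not_le.2 hj')
  · push Not at h
    exact .inr h

theorem at_induced [HasPullbacks C] {E F : C} (𝓔 : ParSh.Str E) (i : F ⟶ E) (a : ℝ) :
    (𝓔.induced i).at a = (Subobject.pullback i).obj (𝓔.at a) := by
  rcases at_cases 𝓔 a with ⟨j, hj, hlt⟩ | h
  · rw [𝓔.at_eq_piece j hj hlt, (𝓔.induced i).at_eq_piece j hj hlt]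
    rfl
  · rw [𝓔.at_eq_bot h, (𝓔.induced i).at_eq_bot h]
    rfl

theorem at_coinduced [HasEqualizers C] [Balanced C] {E G : C} (𝓔 : ParSh.Str E) (p : E ⟶ G) [Epi p] (a : ℝ) :
    (𝓔.coinduced p).at a = imageSubobject ((𝓔.at a).arrow ≫ p) := by
  rcases at_cases 𝓔 a with ⟨j, hj, hlt⟩ | h
  · rw [𝓔.at_eq_piece j hj hlt, (𝓔.coinduced p).at_eq_piece j hj hlt]
    rfl
  · rw [𝓔.at_eq_bot h, (𝓔.coinduced p).at_eq_bot h]
    rfl

/-- `Σ_j w_j (f F_j - f F_{j+1})` is the integral over `[0, 1]` of `f F_t - f bot`. -/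
theorem sum_wt_eq_integral {E : C} (𝓔 : ParSh.Str E) (f : C → ℝ) :
    ∃ g : ℝ → ℝ, IntervalIntegrable g volume 0 1 ∧ (∀ t, g t = f (𝓔.at t : C) - f (𝓔.bot : C)) ∧
      (∫ t in (0 : ℝ)..1, g t) =
        ∑ j : Fin (𝓔.l + 1), 𝓔.wt j * (f (𝓔.piece j : C) - f (𝓔.pieceX j.succ : C)) := by
  classical
  let c : Fin (𝓔.l + 1) → ℝ := fun j => f (𝓔.piece j : C) - f (𝓔.pieceX j.succ : C)
  refine ⟨fun t => ∑ j, (Iic (𝓔.wt j)).indicator (fun _ => c j) t, ?_, fun t => ?_, ?_⟩
  · rw [show (fun t => ∑ j, (Iic (𝓔.wt j)).indicator (fun _ => c j) t) =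
      ∑ j, (Iic (𝓔.wt j)).indicator (fun _ => c j) from funext fun t => (Finset.sum_apply _ _ _).symm]
    refine IntervalIntegrable.sum _ fun j _ => ?_
    rw [intervalIntegrable_iff]
    exact ((integrableOn_const (by simp)).indicator measurableSet_Iic)
  · show ∑ j, (Iic (𝓔.wt j)).indicator (fun _ => c j) t = _
    simp only [Set.indicator_apply, Set.mem_Iic]
    rw [← Finset.sum_filter]
    rcases at_cases 𝓔 t with ⟨j₀, hj, hlt⟩ | h
    · rw [𝓔.at_eq_piece j₀ hj hlt,
        show Finset.univ.filter (fun j => t ≤ 𝓔.wt j) = Finset.univ.filter (j₀ ≤ ·) from Finset.ext fun j => by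
          simp only [Finset.mem_filter, Finset.mem_univ, true_and]
          exact ⟨fun h' => not_lt.1 fun hc => absurd h' (not_le.2 (hlt j hc)),
            fun h' => hj.trans (𝓔.wt_strictMono.monotone h')⟩]
      have := sum_Ici_telescope (fun j => f (𝓔.pieceX j : C)) j₀
      simp only [ParSh.Str.pieceX_castSucc, ParSh.Str.pieceX_last] at this
      exact this
    · rw [𝓔.at_eq_bot h, sub_self]
      exact Finset.sum_eq_zero fun j hj => absurd (Finset.mem_filter.1 hj).2 (not_le.2 (h j))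
  · rw [intervalIntegral.integral_finsetSum fun j _ => by
      rw [intervalIntegrable_iff]
      exact ((integrableOn_const (by simp)).indicator measurableSet_Iic)]
    refine Finset.sum_congr rfl fun j _ => ?_
    have h0 : 0 ≤ 𝓔.wt j := 𝓔.wt_nonneg.trans (𝓔.wt_strictMono.monotone (Fin.zero_le j))
    have h1 : 𝓔.wt j ≤ 1 := (𝓔.wt_strictMono.monotone (Fin.le_last j)).trans 𝓔.wt_lt_one.le
    rw [intervalIntegral.integral_of_le zero_le_one, setIntegral_indicator measurableSet_Iic,
      Ioc_inter_Iic, min_eq_right h1, setIntegral_const]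
    simp [c, h0]

end At

end Groth.Agent.ParShLib
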