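import Groth.Agent.ParShLib.Along
import Groth.Agent.ParShLib.Weights

/-!
# Parabolic degrees along a divisor on a curve
-/

set_option autoImplicit false
set_option linter.style.haveILetI false
set_option linter.unusedSectionVars false
set_option maxHeartbeats 800000
set_option backward.isDefEq.respectTransparency false
set_option backward.isDefEq.respectTransparency.types false

universe u
open CategoryTheory CategoryTheory.Limits AlgebraicGeometry TopologicalSpace

namespace Groth.Agent.ParShLib

variable (k : Type u) [Field k] {X : Scheme.{u}} [X.Over (Spec (CommRingCat.of k))]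
  [IsIntegral X] [IsProper (X ↘ Spec (CommRingCat.of k))] (hdim : topologicalKrullDim X = 1)
  (I : X.IdealSheafData) (hD : FGA.IsEffCartier I)

attribute [local instance] CurveCohLib.stalkModuleK

include k hdim hD in
theorem isClosed_of_mem_support_resD {E : X.Modules} {x : X} (hx : x ∈ CohB1.support (ParSh.resD I E)) :
    IsClosed ({x} : Set X) :=
  isClosed_singleton_of_mem_support k hdim I hD (support_resD_subset I E hx)

include k hdim hD in
theorem isCoh_twistSub {E : X.Modules} (hE : Coh.IsCoh E) :
    Coh.IsCoh ((ParSh.twistSub I E : Subobject E) : X.Modules) := by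
  haveI := CurveCohLib.isNoetherian' (k := k) (X := X)
  rw [twistSub_eq_kernel]
  exact KFlatLib.isCoh_of_iso (kernelSubobjectIso (red I E)).symm (QCoh.isCoh_kernel hE (isCoh_resD I hE) _)

include k hdim hD in
/-- Everything between `I · E` and `E` is coherent. -/
theorem isCoh_of_twistSub_le {E : X.Modules} (hE : Coh.IsCoh E) (P : Subobject E) (hP : ParSh.twistSub I E ≤ P) :
    Coh.IsCoh (P : X.Modules) := by
  haveI := CurveCohLib.isNoetherian' (k := k) (X := X)
  haveI := epi_red I E
  obtain ⟨w, hS⟩ : ∃ w : kernel.ι (red I E) ≫ red I E = 0, (ShortComplex.mk _ _ w).ShortExact :=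
    ⟨kernel.condition _, { exact := ShortComplex.exact_of_f_is_kernel _ (kernelIsKernel _) }⟩
  obtain ⟨w', hT⟩ := shortExact_pullback_image hS P
  refine KFlatLib.isCoh_of_shortExact hT ?_ ?_
  · have htop : (Subobject.pullback (kernel.ι (red I E))).obj P = ⊤ := by
      refine top_le_iff.1 ?_
      have hP' : kernelSubobject (red I E) ≤ P := twistSub_eq_kernel I E ▸ hP
      rw [← Subobject.pullback_self (kernel.ι (red I E))]
      exact (Subobject.pullback (kernel.ι (red I E))).monotone hP'
    show Coh.IsCoh (((Subobject.pullback (kernel.ι (red I E))).obj P : Subobject _) : X.Modules)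
    rw [htop]
    exact KFlatLib.isCoh_of_iso (asIso (⊤ : Subobject (kernel (red I E))).arrow).symm (QCoh.isCoh_kernel hE (isCoh_resD I hE) _)
  · exact isCoh_of_mono_finite_support (imageSubobject (P.arrow ≫ red I E)).arrow (isCoh_resD I hE)
      (fun x hx => isClosed_of_mem_support_resD k hdim I hD hx)
      ((finite_support k hdim I hD).subset (support_resD_subset I E))

include k hdim hD in
theorem isCoh_pieceX {E : X.Modules} (hE : Coh.IsCoh E) {𝓔 : ParSh.Str E} (h : 𝓔.Along I) (j : Fin (𝓔.l + 2)) :
    Coh.IsCoh ((𝓔.pieceX j : Subobject E) : X.Modules) :=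
  isCoh_of_twistSub_le k hdim I hD hE _ (h ▸ 𝓔.bot_le_pieceX j)

include k hdim hD in
theorem isCoh_at {E : X.Modules} (hE : Coh.IsCoh E) {𝓔 : ParSh.Str E} (h : 𝓔.Along I) (a : ℝ) :
    Coh.IsCoh ((𝓔.at a : Subobject E) : X.Modules) :=
  isCoh_of_twistSub_le k hdim I hD hE _ (h ▸ 𝓔.bot_le_at a)

include k hdim hD in
/-- `χ(E ⊗ O_D) = n χ(O_D)`. -/
theorem euler_resD {E : X.Modules} {n : ℕ} (hE : FlatMod.IsFinLocFreeOfRank n E) :
    Curv2.euler k X (ParSh.resD I E) = n * Curv2.euler k X (ClSub.quotMod I) := by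
  haveI := CurveCohLib.isNoetherian' (k := k) (X := X)
  obtain ⟨hE', hEr⟩ := ConsPropLib.isFinLocFreeOfRank_iff.1 hE
  have hEc : Coh.IsCoh E := CurveDeg.isCoh_of_isFinLocFree hE'
  let S := (finite_support k hdim I hD).toFinset
  have hS : (I.support : Set X) ⊆ S := (Set.Finite.coe_toFinset _).ge
  have hsq : CohB1.support (ClSub.quotMod I) ⊆ (I.support : Set X) := fun x hx => by
    by_contra h; exact hx (subsingleton_stalk_quotMod I h)
  obtain ⟨h1, h2⟩ := CurveCohLib.euler_eq_sum_stalks (k := k) (isCoh_resD I hEc)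
    (fun x hx => isClosed_of_mem_support_resD k hdim I hD hx) S ((support_resD_subset I E).trans hS)
  obtain ⟨h3, h4⟩ := CurveCohLib.euler_eq_sum_stalks (k := k) (isCoh_quotMod I)
    (fun x hx => isClosed_singleton_of_mem_support k hdim I hD (hsq hx)) S (hsq.trans hS)
  rw [h1, h3, Finset.mul_sum]
  refine Finset.sum_congr rfl fun x hx => ?_
  letI := stalkAlgK k x
  haveI := isScalarTower_stalkK k E x
  haveI := isScalarTower_stalkK k (ParSh.resD I E) x
  haveI := isScalarTower_stalkK k (ClSub.quotMod I) x
  haveI : Module.Finite k (stk (ClSub.quotMod I) x) := h4 x hx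
  haveI := QCoh.free_stalk_of_isFinLocFree hE' x
  haveI : Module.Finite (X.presheaf.stalk x) (stk E x) :=
    QCoh.finite_stalk_of_isFT hEc.1 (QCoh.isFT_of_isFP (QCoh.isFP_of_isFinLocFree hE')) _
  obtain ⟨-, h⟩ := finrank_tensor_free k (resStalk I E x)
  rw [hEr] at h
  exact_mod_cast h

include k hdim hD in
theorem euler_twistSub {E : X.Modules} {n : ℕ} (hE : FlatMod.IsFinLocFreeOfRank n E) :
    Curv2.euler k X E =
      Curv2.euler k X ((ParSh.twistSub I E : Subobject E) : X.Modules) + n * Curv2.euler k X (ClSub.quotMod I) := by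
  haveI := CurveCohLib.isNoetherian' (k := k) (X := X)
  haveI := epi_red I E
  have hEc : Coh.IsCoh E := CurveDeg.isCoh_of_isFinLocFree (ConsPropLib.isFinLocFreeOfRank_iff.1 hE).1
  rw [← euler_resD k hdim I hD hE, twistSub_eq_kernel,
    CurveCohLib.euler_congr (k := k) (kernelSubobjectIso (red I E))]
  exact CurveCohLib.euler_additive (k := k) (S := ShortComplex.mk (kernel.ι (red I E)) (red I E) (kernel.condition _))
    { exact := ShortComplex.exact_of_f_is_kernel _ (kernelIsKernel _) }
    (QCoh.isCoh_kernel hEc (isCoh_resD I hEc) _) hEc (isCoh_resD I hEc)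

/-- A split monomorphism on stalks stays injective after restriction to the divisor. -/
theorem mono_resDMap {A B : X.Modules} (f : A ⟶ B) [Mono f] (h : FlatMod.IsFinLocFree (cokernel f)) :
    Mono (ParSh.resDMap I f) := by
  refine (ShortComplex.exact_iff_mono (ShortComplex.mk (0 : ParSh.resD I A ⟶ ParSh.resD I A) (ParSh.resDMap I f)
    zero_comp) rfl).1 ((KFlatLib.exact_iff_stalk _).2 fun x => ?_)
  refine ((ShortComplex.mk _ (ParSh.resDMap I f) zero_comp).map (DerSch.stalkFunctor X x)).exact_iff_mono
    ((DerSch.stalkFunctor X x).map_zero _ _) |>.2 ((ModuleCat.mono_iff_injective _).2 ?_)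
  have hS : (ShortComplex.mk f (cokernel.π f) (cokernel.condition f)).ShortExact :=
    { exact := ShortComplex.exact_of_g_is_cokernel _ (cokernelIsCokernel f) }
  have hx := (KFlatLib.shortExact_iff_stalk _).1 hS x
  have hex : Function.Exact (stkMap f x) (stkMap (cokernel.π f) x) :=
    (ShortComplex.ShortExact.moduleCat_exact_iff_function_exact _).1 hx.exact
  have hinj : Function.Injective (stkMap f x) := CurveCohLib.stalk_injective f x
  haveI := QCoh.free_stalk_of_isFinLocFree h x
  obtain ⟨s, hs⟩ := Module.projective_lifting_property (stkMap (cokernel.π f) x) LinearMap.id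
    hx.moduleCat_surjective_g
  obtain ⟨r, hr⟩ : ∃ r, r ∘ₗ stkMap f x = LinearMap.id :=
    ⟨_, ((hex.splitInjectiveEquiv hx.moduleCat_surjective_g).symm ((hex.splitSurjectiveEquiv hinj) ⟨s, hs⟩)).2⟩
  intro a b hab
  apply (resStalk I A x).injective
  have h1 := congrArg (resStalk I B x) hab
  change resStalk I B x (stkMap (ParSh.resDMap I f) x a) = resStalk I B x (stkMap (ParSh.resDMap I f) x b) at h1
  rw [resStalk_naturality, resStalk_naturality] at h1
  have h2 := congrArg (LinearMap.rTensor _ r) h1
  rw [← LinearMap.rTensor_comp_apply, ← LinearMap.rTensor_comp_apply, hr, LinearMap.rTensor_id] at h2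
  exact h2

/-- Saturated sub-bundles: `(I · F) ∩ W = I · W`. -/
theorem pullback_twistSub {F W : X.Modules} (ι : W ⟶ F) [Mono ι] (h : FlatMod.IsFinLocFree (cokernel ι)) :
    (Subobject.pullback ι).obj (ParSh.twistSub I F) = ParSh.twistSub I W := by
  haveI := mono_resDMap I ι h
  rw [twistSub_eq_kernel, twistSub_eq_kernel, pullback_kernelSubobject, ← red_naturality,
    kernelSubobject_comp_mono]

theorem along_induced {F W : X.Modules} {𝓕 : ParSh.Str F} (h : 𝓕.Along I) (ι : W ⟶ F) [Mono ι]
    (hι : FlatMod.IsFinLocFree (cokernel ι)) : (𝓕.induced ι).Along I := by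
  show (Subobject.pullback ι).obj 𝓕.bot = _
  rw [h, pullback_twistSub I ι hι]

theorem along_coinduced {E V : X.Modules} {𝓔 : ParSh.Str E} (h : 𝓔.Along I) (q : E ⟶ V) [Epi q] :
    (𝓔.coinduced q).Along I := by
  show imageSubobject (𝓔.bot.arrow ≫ q) = _
  rw [h, image_twistSub]

end Groth.Agent.ParShLib
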