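import Groth.Agent.ParShLib.Coeff
import Mathlib.Analysis.Polynomial.Basic
import Mathlib.Analysis.SpecificLimits.Basic

/-! Asymptotic comparison of polynomial values. -/

noncomputable section

set_option linter.style.haveILetI false
set_option linter.unusedSectionVars false
set_option backward.isDefEq.respectTransparency false
set_option backward.isDefEq.respectTransparency.types false

universe u

open Filter Polynomial Topology

namespace Groth.Agent.ParShLib

/-- The values over `x ^ e` tend to the coefficient in degree `e`. -/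
theorem tendsto_eval_div {D : ℝ[X]} {e : ℕ} (h : ∀ n, e < n → D.coeff n = 0) :
    Tendsto (fun n : ℕ => D.eval (n : ℝ) / (n : ℝ) ^ e) atTop (𝓝 (D.coeff e)) := by
  have hd : D.natDegree < e + 1 := Nat.lt_succ_of_le (Polynomial.natDegree_le_iff_coeff_eq_zero.2 fun n hn => h n (by omega))
  have hev : ∀ n : ℕ, D.eval (n : ℝ) / (n : ℝ) ^ e =
      ∑ i ∈ Finset.range (e + 1), D.coeff i * ((n : ℝ) ^ i / (n : ℝ) ^ e) := fun n => by
    rw [eval_eq_sum_range' hd, Finset.sum_div]
    exact Finset.sum_congr rfl fun i _ => mul_div_assoc _ _ _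
  simp_rw [hev]
  have hsum : D.coeff e = ∑ i ∈ Finset.range (e + 1), D.coeff i * (if i = e then 1 else 0) := by
    simp
  rw [hsum]
  refine tendsto_finsetSum _ fun i hi => ?_
  refine Tendsto.const_mul _ ?_
  split_ifs with hie
  · subst hie
    refine tendsto_const_nhds.congr' ?_
    filter_upwards [eventually_gt_atTop 0] with n hn
    rw [div_self (pow_ne_zero _ (by exact_mod_cast hn.ne'))]
  · have hlt : i < e := lt_of_le_of_ne (Nat.lt_succ_iff.1 (Finset.mem_range.1 hi)) hie
    exact (tendsto_pow_div_pow_atTop_zero hlt).comp tendsto_natCast_atTop_atTop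

/-- Eventual nonpositivity bounds the top coefficient. -/
theorem coeff_nonpos_of_eventually {D : ℝ[X]} {e : ℕ} (h : ∀ n, e < n → D.coeff n = 0)
    (hev : ∃ M : ℕ, ∀ m : ℕ, M ≤ m → D.eval (m : ℝ) ≤ 0) : D.coeff e ≤ 0 := by
  obtain ⟨M, hM⟩ := hev
  refine le_of_tendsto (tendsto_eval_div h) ?_
  filter_upwards [eventually_ge_atTop M] with n hn
  exact div_nonpos_of_nonpos_of_nonneg (hM n hn) (by positivity)

/-- A negative top coefficient makes the values eventually negative. -/
theorem eventually_neg_of_coeff {D : ℝ[X]} {e : ℕ} (h : ∀ n, e < n → D.coeff n = 0) (hc : D.coeff e < 0) :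
    ∃ M : ℕ, ∀ m : ℕ, M ≤ m → D.eval (m : ℝ) < 0 := by
  obtain ⟨M, hM⟩ := eventually_atTop.1 ((tendsto_eval_div h).eventually (Iio_mem_nhds hc))
  refine ⟨M, fun m hm => ?_⟩
  by_contra hneg
  exact not_lt.2 (div_nonneg (not_lt.1 hneg) (by positivity)) (hM m hm)

theorem eval_rpoly (Q : ℚ[X]) (n : ℕ) :
    (W4swparbununimod.rpoly Q).eval (n : ℝ) = ((Q.eval (n : ℚ) : ℚ) : ℝ) := by
  show (Q.map (Rat.castHom ℝ)).eval (n : ℝ) = _
  rw [show (n : ℝ) = Rat.castHom ℝ (n : ℚ) by simp, eval_map, eval₂_hom]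
  simp

/-- Rational values over `x ^ e`. -/
theorem tendsto_rat_div {Q : ℚ[X]} {e : ℕ} (h : ∀ n, e < n → Q.coeff n = 0) :
    Tendsto (fun n : ℕ => ((Q.eval (n : ℚ) : ℚ) : ℝ) / (n : ℝ) ^ e) atTop (𝓝 (Q.coeff e : ℝ)) := by
  have h' : ∀ n, e < n → (W4swparbununimod.rpoly Q).coeff n = 0 := fun n hn => by simp [coeff_map, h n hn]
  have := tendsto_eval_div h'
  simp_rw [eval_rpoly, coeff_map] at this
  simpa using this

end Groth.Agent.ParShLib
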