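import Groth.Agent.ParShLib.Degree
import Groth.Agent.CurveCohLib.Rank

/-! Coefficients of parabolic Hilbert polynomials. -/

noncomputable section

set_option linter.style.haveILetI false
set_option linter.unusedSectionVars false
set_option backward.isDefEq.respectTransparency false
set_option backward.isDefEq.respectTransparency.types false

universe u v

open CategoryTheory CategoryTheory.Limits AlgebraicGeometry TopologicalSpace
open scoped Polynomial

namespace Groth.Agent.ParShLib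

open Groth.Agent W4swparbununimod

/-- Summation by parts for coefficients. -/
theorem parPoly_coeff {C : Type u} [Category.{v} C] {E : C} (𝓔 : ParSh.Str E) (P : ℚ[X])
    (PX : Fin (𝓔.l + 2) → ℚ[X]) (h0 : PX 0 = P) (n : ℕ) :
    (parPoly 𝓔 PX).coeff n = (P.coeff n : ℝ) -
      ∑ j : Fin (𝓔.l + 1), (𝓔.wtX j.succ - 𝓔.wtX j.castSucc) * ((P.coeff n : ℝ) - (PX j.succ).coeff n) := by
  let c : Fin (𝓔.l + 2) → ℝ := fun j => ((PX j).coeff n : ℝ)
  have hc : (parPoly 𝓔 PX).coeff n = c (Fin.last _) + ∑ j : Fin (𝓔.l + 1), 𝓔.wt j * (c j.castSucc - c j.succ) := by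
    simp [parPoly, c, Polynomial.coeff_map, Polynomial.coeff_C_mul]
  let g : Fin (𝓔.l + 2) → ℝ := fun j => 𝓔.wtX j * ((P.coeff n : ℝ) - c j)
  have htel : ∑ j : Fin (𝓔.l + 1), (g j.succ - g j.castSucc) = (P.coeff n : ℝ) - c (Fin.last (𝓔.l + 1)) := by
    rw [Finset.sum_sub_distrib]
    have e1 := Fin.sum_univ_succ g
    have e2 := Fin.sum_univ_castSucc g
    have e3 : g 0 = 0 := by show _ * ((P.coeff n : ℝ) - ((PX 0).coeff n : ℝ)) = 0; rw [h0, sub_self, mul_zero]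
    have e4 : g (Fin.last (𝓔.l + 1)) = (P.coeff n : ℝ) - c (Fin.last (𝓔.l + 1)) := by
      show 𝓔.wtX _ * _ = _; rw [𝓔.wtX_last, one_mul]
    linarith
  rw [hc]
  suffices ∑ j : Fin (𝓔.l + 1), 𝓔.wt j * (c j.castSucc - c j.succ) +
      ∑ j : Fin (𝓔.l + 1), (𝓔.wtX j.succ - 𝓔.wtX j.castSucc) * ((P.coeff n : ℝ) - c j.succ) =
        (P.coeff n : ℝ) - c (Fin.last (𝓔.l + 1)) by
    linarith
  rw [← htel, ← Finset.sum_add_distrib]
  refine Finset.sum_congr rfl fun j _ => ?_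
  show _ = 𝓔.wtX j.succ * _ - 𝓔.wtX j.castSucc * _
  rw [𝓔.wtX_castSucc]
  ring

variable {X : Scheme.{u}} (k : Type u) [Field k] [X.Over (Spec (CommRingCat.of k))]
  [IsProper (X ↘ Spec (CommRingCat.of k))] {L : X.Modules}

/-- The first piece has the polynomial of the whole. -/
theorem hilb_zero (hL : CohB1.IsAmple L) {E : X.Modules} (𝓔 : ParSh.Str E) {P : ℚ[X]}
    (hP : ShStab.IsHilbPoly k X L E P) {PX : Fin (𝓔.l + 2) → ℚ[X]}
    (hPX : ∀ j, ShStab.IsHilbPoly k X L ((𝓔.pieceX j : Subobject E) : X.Modules) (PX j)) : PX 0 = P := by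
  haveI := CurveCohLib.isNoetherian_of_proper (k := k) (X := X)
  refine eq_of_eval_nat fun n => ?_
  rw [← hP n, ← hPX 0 n]
  have h : 𝓔.pieceX 0 = ⊤ := (𝓔.pieceX_castSucc 0).trans 𝓔.piece_zero
  rw [h]
  exact congrArg Int.cast (CurveCohLib.euler_congr (k := k)
    ((AmpleVan.tw (CohB1.tensorPow L n)).mapIso (asIso (⊤ : Subobject E).arrow)))

variable {E : X.Modules} {𝓔 : ParSh.Str E} {T : Set X} {d : ℕ}

/-- The pieces agree with the whole in high degrees. -/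
theorem coeff_pieceX (hL : CohB1.IsAmple L) (hE : Coh.IsCoh E) (h : AgreeOff T 𝓔)
    (hcoh : ∀ j, Coh.IsCoh ((𝓔.pieceX j : Subobject E) : X.Modules))
    (hdim : topologicalKrullDim ↥(CohB1.support E ∩ T) < (d : WithBot ℕ∞))
    {P : ℚ[X]} (hP : ShStab.IsHilbPoly k X L E P) {PX : Fin (𝓔.l + 2) → ℚ[X]}
    (hPX : ∀ j, ShStab.IsHilbPoly k X L ((𝓔.pieceX j : Subobject E) : X.Modules) (PX j))
    (j : Fin (𝓔.l + 2)) {n : ℕ} (hn : d ≤ n) : (PX j).coeff n = P.coeff n := by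
  haveI := CurveCohLib.isNoetherian_of_proper (k := k) (X := X)
  have hH := hilb_cokernel k hL (𝓔.pieceX j).arrow (hcoh j) hE hP (hPX j)
  have hdeg := degree_lt_of_support k hL (QCoh.isCoh_cokernel (hcoh j).1 hE _) (h.support_cokernel hE.1 j (hcoh j).1) hdim hH
  have h0 := Polynomial.coeff_eq_zero_of_degree_lt (lt_of_lt_of_le hdeg (Nat.cast_le.2 hn))
  rw [Polynomial.coeff_sub, sub_eq_zero] at h0
  exact h0.symm

/-- The parabolic polynomial agrees with the Hilbert polynomial in high degrees. -/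
theorem parPoly_coeff_eq (hL : CohB1.IsAmple L) (hE : Coh.IsCoh E) (h : AgreeOff T 𝓔)
    (hcoh : ∀ j, Coh.IsCoh ((𝓔.pieceX j : Subobject E) : X.Modules))
    (hdim : topologicalKrullDim ↥(CohB1.support E ∩ T) < (d : WithBot ℕ∞))
    {P : ℚ[X]} (hP : ShStab.IsHilbPoly k X L E P) {PX : Fin (𝓔.l + 2) → ℚ[X]}
    (hPX : ∀ j, ShStab.IsHilbPoly k X L ((𝓔.pieceX j : Subobject E) : X.Modules) (PX j))
    {n : ℕ} (hn : d ≤ n) : (parPoly 𝓔 PX).coeff n = (P.coeff n : ℝ) := by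
  rw [parPoly_coeff 𝓔 P PX (hilb_zero k hL 𝓔 hP hPX) n, Finset.sum_eq_zero fun j _ => ?_, sub_zero]
  rw [coeff_pieceX k hL hE h hcoh hdim hP hPX j.succ hn, sub_self, mul_zero]

end Groth.Agent.ParShLib
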