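import Groth.Agent.ParShLib.ResStalk
import Groth.Agent.CurveCohLib.Stable

/-!
# `H⁰(E ⊗ O_D)` on a curve
-/

set_option autoImplicit false
set_option linter.style.haveILetI false
set_option linter.unusedSectionVars false

universe u
open CategoryTheory CategoryTheory.Limits AlgebraicGeometry TopologicalSpace Opposite
open scoped TensorProduct

namespace Groth.Agent.ParShLib

variable (k : Type u) [Field k] {X : Scheme.{u}} [X.Over (Spec (CommRingCat.of k))]

attribute [local instance] CurveCohLib.stalkModuleK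

/-- The structure of a `k`-algebra on a local ring. -/
noncomputable abbrev stalkAlgK (x : X) : Algebra k (X.presheaf.stalk x) := (Curv2.stalkMap k X x).toAlgebra

theorem isScalarTower_stalkK (M : X.Modules) (x : X) :
    letI := stalkAlgK k x
    IsScalarTower k (X.presheaf.stalk x) (stk M x) :=
  letI := stalkAlgK k x
  IsScalarTower.of_algebraMap_smul fun _ _ => rfl

theorem stkMap_smulK {M N : X.Modules} (f : M ⟶ N) (x : X) (c : k) (a : stk M x) :
    stkMap f x (c • a) = c • stkMap f x a :=
  map_smul (stkMap f x) (Curv2.stalkMap k X x c) a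

variable [IsIntegral X] [IsProper (X ↘ Spec (CommRingCat.of k))] (hdim : topologicalKrullDim X = 1)
  (I : X.IdealSheafData) (hD : FGA.IsEffCartier I)

include k hdim hD in
theorem isClosed_singleton_of_mem_support {x : X} (hx : x ∈ I.support) : IsClosed ({x} : Set X) := by
  haveI : CompactSpace X := QuasiCompact.compactSpace_of_compactSpace (X ↘ Spec (CommRingCat.of k))
  by_contra hne
  exact genericPoint_notMem_support I hD (CurveCohLib.eq_genericPoint_of_not_isClosed hdim hne ▸ hx)

include k hdim hD in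
theorem finite_support : (I.support : Set X).Finite := by
  haveI := CurveCohLib.isNoetherian' (k := k) (X := X)
  exact CurveCohLib.finite_of_closedPoints I.support.isClosed
    fun x hx => isClosed_singleton_of_mem_support k hdim I hD hx

variable {E F : X.Modules}

theorem support_resD_subset (E : X.Modules) : CohB1.support (ParSh.resD I E) ⊆ (I.support : Set X) := fun x hx => by
  by_contra h
  exact hx (subsingleton_stalk_resD I E h)

include k hdim hD in
theorem exists_fibEquiv (hE : Coh.IsCoh E) (S : Finset X) (hS : (I.support : Set X) ⊆ S) :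
    ∃ e : ParSh.fibD X I E ≃ₗ[k] (∀ x : S, stk (ParSh.resD I E) x.1),
      ∀ t x, e t x = (ParSh.resD I E).presheaf.germ ⊤ x.1 trivial
        (Sheaf.H.equiv₀ (Coh.toAb (ParSh.resD I E)) isTerminalTop t : Γ(ParSh.resD I E, ⊤)) := by
  haveI := CurveCohLib.isNoetherian' (k := k) (X := X)
  exact CurveCohLib.exists_h0Equiv (k := k) (isCoh_resD I hE)
    (fun x hx => isClosed_singleton_of_mem_support k hdim I hD (support_resD_subset I E hx)) S
    ((support_resD_subset I E).trans hS)

theorem fibEquiv_natural (f : E ⟶ F) (S : Finset X)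
    (eE : ParSh.fibD X I E ≃ₗ[k] (∀ x : S, stk (ParSh.resD I E) x.1))
    (hE : ∀ t x, eE t x = (ParSh.resD I E).presheaf.germ ⊤ x.1 trivial
      (Sheaf.H.equiv₀ (Coh.toAb (ParSh.resD I E)) isTerminalTop t : Γ(ParSh.resD I E, ⊤)))
    (eF : ParSh.fibD X I F ≃ₗ[k] (∀ x : S, stk (ParSh.resD I F) x.1))
    (hF : ∀ t x, eF t x = (ParSh.resD I F).presheaf.germ ⊤ x.1 trivial
      (Sheaf.H.equiv₀ (Coh.toAb (ParSh.resD I F)) isTerminalTop t : Γ(ParSh.resD I F, ⊤)))
    (t : ParSh.fibD X I E) (x : S) :
    eF (ParSh.fibDMap k X I f t) x = stkMap (ParSh.resDMap I f) x.1 (eE t x) := by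
  rw [hE, hF, stkMap_germ]
  refine congrArg ((ParSh.resD I F).presheaf.germ ⊤ x.1 trivial) ?_
  exact (Sheaf.H.equiv₀_naturality isTerminalTop
    ((SheafOfModules.toSheaf X.ringCatSheaf).map (ParSh.resDMap I f)) t).symm

theorem nonempty_coker_equiv {E F : X.Modules} (f : E ⟶ F) [Mono f] (x : X) :
    Nonempty ((stk F x ⧸ LinearMap.range (stkMap f x)) ≃ₗ[X.presheaf.stalk x] stk (cokernel f) x) := by
  have hS : (ShortComplex.mk f (cokernel.π f) (cokernel.condition f)).ShortExact :=
    { exact := ShortComplex.exact_of_g_is_cokernel _ (cokernelIsCokernel f) }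
  have hx := (KFlatLib.shortExact_iff_stalk _).1 hS x
  exact ⟨(Submodule.quotEquivOfEq _ _ hx.exact.moduleCat_range_eq_ker).trans
    (LinearMap.quotKerEquivOfSurjective (stkMap (cokernel.π f) x) hx.moduleCat_surjective_g)⟩

include k hdim hD in
/-- The kernel of `F₀(f)` is bounded by the jump of the Euler characteristic. -/
theorem finrank_ker_fibDMap_le (f : E ⟶ F) [Mono f] {n : ℕ} (hE : FlatMod.IsFinLocFreeOfRank n E)
    (hF : FlatMod.IsFinLocFreeOfRank n F) :
    Module.Finite k (ParSh.fibD X I E) ∧ Module.Finite k (ParSh.fibD X I F) ∧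
    (Module.finrank k (LinearMap.ker (ParSh.fibDMap k X I f)) : ℤ) ≤
      Curv2.deg k X F n - Curv2.deg k X E n := by
  classical
  haveI := CurveCohLib.isNoetherian' (k := k) (X := X)
  obtain ⟨hE', hEr⟩ := ConsPropLib.isFinLocFreeOfRank_iff.1 hE
  obtain ⟨hF', hFr⟩ := ConsPropLib.isFinLocFreeOfRank_iff.1 hF
  have hEc : Coh.IsCoh E := QCoh.isCoh_iff_isFP.2 (QCoh.isFP_of_isFinLocFree hE')
  have hFc : Coh.IsCoh F := QCoh.isCoh_iff_isFP.2 (QCoh.isFP_of_isFinLocFree hF')
  have hC : Coh.IsCoh (cokernel f) := QCoh.isCoh_cokernel hEc.1 hFc f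
  have h0 : ∀ x ∈ CohB1.support (cokernel f), IsClosed ({x} : Set X) := fun x hx => by
    by_contra hne
    obtain rfl := CurveCohLib.eq_genericPoint_of_not_isClosed hdim hne
    have hS : (ShortComplex.mk f (cokernel.π f) (cokernel.condition f)).ShortExact :=
      { exact := ShortComplex.exact_of_g_is_cokernel _ (cokernelIsCokernel f) }
    have h := CurveCohLib.genRank_add hS hFc
    change CurveCohLib.genRank F = CurveCohLib.genRank E + CurveCohLib.genRank (cokernel f) at h
    rw [CurveCohLib.genRank_eq hE, CurveCohLib.genRank_eq hF] at h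
    haveI : Module.Finite (X.presheaf.stalk (genericPoint X)) ((cokernel f).presheaf.stalk (genericPoint X)) :=
      QCoh.finite_stalk_of_isFT hC.1 (QCoh.isFT_of_isFP (QCoh.isCoh_iff_isFP.1 hC)) _
    letI : Field (X.presheaf.stalk (genericPoint X)) := inferInstanceAs (Field X.functionField)
    exact hx (Module.finrank_zero_iff.1 (show CurveCohLib.genRank (cokernel f) = 0 by omega))
  have hfin : (CohB1.support (cokernel f)).Finite :=
    CurveCohLib.finite_of_closedPoints (QCoh.isClosed_support_of_isFT hC.1 hC.2) h0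
  let S : Finset X := (finite_support k hdim I hD).toFinset ∪ hfin.toFinset
  have hSI : (I.support : Set X) ⊆ S := fun x hx =>
    Finset.mem_coe.2 (Finset.mem_union_left _ ((Set.Finite.mem_toFinset _).2 hx))
  have hSC : CohB1.support (cokernel f) ⊆ S := fun x hx =>
    Finset.mem_coe.2 (Finset.mem_union_right _ ((Set.Finite.mem_toFinset _).2 hx))
  obtain ⟨eE, heE⟩ := exists_fibEquiv k hdim I hD hEc S hSI
  obtain ⟨eF, heF⟩ := exists_fibEquiv k hdim I hD hFc S hSI
  obtain ⟨hχ, hfC⟩ := CurveCohLib.euler_eq_sum_stalks (k := k) hC h0 S hSC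
  have hQ := (CurveCohLib.euler_eq_sum_stalks (k := k) (isCoh_quotMod I)
    (fun x hx => isClosed_singleton_of_mem_support k hdim I hD (by
      by_contra h; exact hx (subsingleton_stalk_quotMod I h))) S (fun x hx => by
      by_contra h; exact hx (subsingleton_stalk_quotMod I fun h' => h (hSI h')))).2
  have key : ∀ x : S, Module.Finite k (stk (ParSh.resD I E) x.1) ∧ Module.Finite k (stk (ParSh.resD I F) x.1) ∧
      ∃ g : stk (ParSh.resD I E) x.1 →ₗ[k] stk (ParSh.resD I F) x.1,
        (∀ a, g a = stkMap (ParSh.resDMap I f) x.1 a) ∧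
        Module.finrank k (LinearMap.ker g) ≤ Module.finrank k (stk (cokernel f) x.1) := by
    intro x
    letI := stalkAlgK k x.1
    haveI := isScalarTower_stalkK k E x.1
    haveI := isScalarTower_stalkK k F x.1
    haveI := isScalarTower_stalkK k (ParSh.resD I E) x.1
    haveI := isScalarTower_stalkK k (ParSh.resD I F) x.1
    haveI := isScalarTower_stalkK k (ClSub.quotMod I) x.1
    haveI := isScalarTower_stalkK k (cokernel f) x.1
    haveI : Module.Finite k (stk (ClSub.quotMod I) x.1) := hQ x.1 x.2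
    haveI : Module.Finite k (stk (cokernel f) x.1) := hfC x.1 x.2
    haveI := QCoh.free_stalk_of_isFinLocFree hE' x.1
    haveI := QCoh.free_stalk_of_isFinLocFree hF' x.1
    haveI : Module.Finite (X.presheaf.stalk x.1) (stk E x.1) :=
      QCoh.finite_stalk_of_isFT hEc.1 (QCoh.isFT_of_isFP (QCoh.isFP_of_isFinLocFree hE')) _
    haveI : Module.Finite (X.presheaf.stalk x.1) (stk F x.1) :=
      QCoh.finite_stalk_of_isFT hFc.1 (QCoh.isFT_of_isFP (QCoh.isFP_of_isFinLocFree hF')) _
    obtain ⟨hAf, hA⟩ := finrank_tensor_free k (resStalk I E x.1)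
    obtain ⟨hBf, hB⟩ := finrank_tensor_free k (resStalk I F x.1)
    obtain ⟨q₀, hq⟩ := exists_germ_smul I x.1
    obtain ⟨c⟩ := nonempty_coker_equiv f x.1
    haveI : Module.Finite k (stk F x.1 ⧸ LinearMap.range (stkMap f x.1)) :=
      Module.Finite.equiv (c.restrictScalars k).symm
    refine ⟨hAf, hBf, (stkMap (ParSh.resDMap I f) x.1).restrictScalars k, fun a => rfl, ?_⟩
    refine (finrank_ker_le k (stkMap f x.1) _ (resStalk I E x.1) (resStalk I F x.1)
      (resStalk_naturality I f x.1) q₀ hq ?_).trans (c.restrictScalars k).finrank_eq.le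
    rw [hA, hB, hEr, hFr]
  choose hAf hBf g hg hle using key
  haveI := hAf
  haveI := hBf
  refine ⟨Module.Finite.equiv eE.symm, Module.Finite.equiv eF.symm, ?_⟩
  let Φ : LinearMap.ker (ParSh.fibDMap k X I f) →ₗ[k] ∀ x : S, LinearMap.ker (g x) :=
    LinearMap.pi fun x => LinearMap.codRestrict _ (LinearMap.proj x ∘ₗ eE.toLinearMap ∘ₗ Submodule.subtype _)
      fun t => by
        rw [LinearMap.mem_ker, hg]
        show stkMap (ParSh.resDMap I f) x.1 (eE t.1 x) = 0
        rw [← fibEquiv_natural k I f S eE heE eF heF, LinearMap.mem_ker.1 t.2, map_zero]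
        rfl
  have hΦ : Function.Injective Φ := fun a b h =>
    Subtype.ext (eE.injective (funext fun x => congrArg Subtype.val (congrFun h x)))
  have h1 := LinearMap.finrank_le_finrank_of_injective hΦ
  rw [Module.finrank_pi_fintype] at h1
  have h2 : ∑ x : S, Module.finrank k (LinearMap.ker (g x)) ≤ ∑ x : S, Module.finrank k (stk (cokernel f) x.1) :=
    Finset.sum_le_sum fun x _ => hle x
  rw [Finset.sum_coe_sort S fun x => Module.finrank k (stk (cokernel f) x)] at h2
  have h3 : Curv2.euler k X F = Curv2.euler k X E + Curv2.euler k X (cokernel f) :=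
    CurveCohLib.euler_additive (k := k) (S := ShortComplex.mk f (cokernel.π f) (cokernel.condition f))
      { exact := ShortComplex.exact_of_g_is_cokernel _ (cokernelIsCokernel f) } hEc hFc hC
  rw [hχ] at h3
  unfold Curv2.deg
  have h4 : ((Module.finrank k (LinearMap.ker (ParSh.fibDMap k X I f)) : ℕ) : ℤ) ≤
      ((∑ x ∈ S, Module.finrank k (stk (cokernel f) x) : ℕ) : ℤ) := by exact_mod_cast h1.trans h2
  rw [Nat.cast_sum] at h4
  linarith

end Groth.Agent.ParShLib
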