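import Groth.Agent.ParShLib.PolyOne
import Groth.Agent.HilbPoly.HN

/-!
# Comparing and identifying filtrations through their Hilbert polynomials
-/

set_option autoImplicit false
set_option linter.style.haveILetI false
set_option linter.unusedSectionVars false
set_option maxHeartbeats 800000
set_option backward.isDefEq.respectTransparency false
set_option backward.isDefEq.respectTransparency.types false

universe u v
open CategoryTheory CategoryTheory.Limits AlgebraicGeometry TopologicalSpace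
open scoped Polynomial

namespace Groth.Agent.ParShLib

open Groth.Agent W4swparbununimod

/-- The parabolic polynomial as a positive combination. -/
theorem parPoly_eval' {C : Type u} [Category.{v} C] {E : C} (𝓔 : ParSh.Str E) (P : ℚ[X])
    (PX : Fin (𝓔.l + 2) → ℚ[X]) (h0 : PX 0 = P) (m : ℕ) :
    (parPoly 𝓔 PX).eval (m : ℝ) = 𝓔.wt 0 * ((P.eval (m : ℚ) : ℚ) : ℝ) +
      ∑ j : Fin (𝓔.l + 1), (𝓔.wtX j.succ - 𝓔.wtX j.castSucc) * (((PX j.succ).eval (m : ℚ) : ℚ) : ℝ) := by
  rw [parPoly_eval 𝓔 P PX h0 m]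
  have hsum := sum_wtX_step 𝓔
  rw [Finset.sum_sub_distrib] at hsum
  simp only [mul_sub, Finset.sum_sub_distrib, ← Finset.sum_mul, hsum]
  ring

theorem wtX_step_pos {C : Type u} [Category.{v} C] {E : C} (𝓔 : ParSh.Str E) (j : Fin (𝓔.l + 1)) :
    0 < 𝓔.wtX j.succ - 𝓔.wtX j.castSucc := by
  induction j using Fin.lastCases with
  | last =>
    rw [Fin.succ_last, 𝓔.wtX_last, 𝓔.wtX_castSucc]
    linarith [𝓔.wt_lt_one]
  | cast i =>
    rw [Fin.succ_castSucc, 𝓔.wtX_castSucc, 𝓔.wtX_castSucc]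
    linarith [𝓔.wt_strictMono (Fin.castSucc_lt_succ (i := i))]

variable {X : Scheme.{u}} {k : Type u} [Field k] [X.Over (Spec (CommRingCat.of k))]
  [IsProper (X ↘ Spec (CommRingCat.of k))] {L : X.Modules} {d : ℕ}

theorem hilb_le_of_mono (hL : CohB1.IsAmple L) {A B : X.Modules} (hA : Coh.IsCoh A) (hB : Coh.IsCoh B)
    (hd : topologicalKrullDim ↥(CohB1.support B) ≤ (d : WithBot ℕ∞)) (f : A ⟶ B) [Mono f] {PA PB : ℚ[X]}
    (hPA : ShStab.IsHilbPoly k X L A PA) (hPB : ShStab.IsHilbPoly k X L B PB) :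
    (∀ᶠ m : ℕ in Filter.atTop, PA.eval (m : ℚ) ≤ PB.eval (m : ℚ)) ∧ (PA = PB → IsIso f) := by
  obtain ⟨hC, hdC, hpC⟩ := HilbPoly.cokernel_data hL hA hB hd f hPA hPB
  refine ⟨?_, fun he => ?_⟩
  · obtain ⟨N, hN⟩ := HilbPoly.hilb_nonneg hL hC hdC hpC
    filter_upwards [Filter.eventually_ge_atTop N] with m hm
    have := hN m hm
    simp only [Polynomial.eval_zero, Polynomial.eval_sub] at this
    linarith
  · have hz := HilbPoly.isZero_of_hilb_zero hL hC hdC (by rwa [he, sub_self] at hpC)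
    haveI : Epi f := Preadditive.epi_of_isZero_cokernel _ hz
    exact isIso_of_mono_of_epi f

theorem eq_of_le_of_hilb_eq (hL : CohB1.IsAmple L) {V : X.Modules} {A B : Subobject V} (hle : A ≤ B)
    (hA : Coh.IsCoh (A : X.Modules)) (hB : Coh.IsCoh (B : X.Modules))
    (hd : topologicalKrullDim ↥(CohB1.support (B : X.Modules)) ≤ (d : WithBot ℕ∞)) {PA PB : ℚ[X]}
    (hPA : ShStab.IsHilbPoly k X L (A : X.Modules) PA) (hPB : ShStab.IsHilbPoly k X L (B : X.Modules) PB)
    (he : PA = PB) : A = B := by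
  haveI := (hilb_le_of_mono hL hA hB hd (Subobject.ofLE A B hle) hPA hPB).2 he
  exact le_antisymm hle (Subobject.le_of_comm (inv (Subobject.ofLE A B hle))
    (by rw [IsIso.inv_comp_eq, Subobject.ofLE_arrow]))

/-- Semistability tested on a possibly zero saturated submodule. -/
theorem parPoly_le_of_isZero {E W : X.Modules} (𝓔 : ParSh.Str E) (ι : W ⟶ E) [Mono ι] (hW : IsZero W)
    (Q : ℚ[X]) (QX : Fin (𝓔.l + 2) → ℚ[X]) (hQ : ShStab.IsHilbPoly k X L W Q)
    (hQX : ∀ j, ShStab.IsHilbPoly k X L (((𝓔.induced ι).pieceX j : Subobject W) : X.Modules) (QX j)) :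
    parPoly (𝓔.induced ι) QX = 0 ∧ StabCat.alpha d Q = 0 := by
  have h : ∀ j, QX j = 0 := fun j => HilbPoly.isHilbPoly_unique (hQX j) (HilbPoly.hilb_isZero
    ((IsZero.iff_id_eq_zero _).2 (by
      rw [← cancel_mono ((𝓔.induced ι).pieceX j).arrow]; exact hW.eq_of_tgt _ _)))
  refine ⟨?_, by rw [HilbPoly.isHilbPoly_unique hQ (HilbPoly.hilb_isZero hW)]; simp [StabCat.alpha]⟩
  simp [W4swparbununimod.parPoly, h]

theorem poly_eq_of_eventually {P Q : ℚ[X]} (h : ∀ᶠ m : ℕ in Filter.atTop, P.eval (m : ℚ) = Q.eval (m : ℚ)) :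
    P = Q := by
  obtain ⟨N, hN⟩ := Filter.eventually_atTop.1 h
  exact HilbPoly.poly_ext N hN

theorem realPoly_eq_of_eventually {P Q : Polynomial ℝ}
    (h : ∀ᶠ m : ℕ in Filter.atTop, P.eval (m : ℝ) = Q.eval (m : ℝ)) : P = Q := by
  obtain ⟨N, hN⟩ := Filter.eventually_atTop.1 h
  refine Polynomial.eq_of_infinite_eval_eq P Q (Set.Infinite.mono ?_
    ((Set.infinite_range_of_injective (f := fun n : ℕ => ((N + n : ℕ) : ℝ))
      (fun a b hab => by simpa using hab))))
  rintro _ ⟨n, rfl⟩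
  exact hN _ (Nat.le_add_right N n)

end Groth.Agent.ParShLib
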