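import Groth.Agent.ParShLib.Coeff
import Groth.Agent.ParShLib.Asymp
import Groth.Agent.HilbPoly.Sat
import Mathlib.CategoryTheory.Abelian.CommSq

/-!
# The first modified parabolic polynomial against the induced one
-/

set_option autoImplicit false
set_option linter.style.haveILetI false
set_option linter.unusedSectionVars false
set_option maxHeartbeats 800000
set_option backward.isDefEq.respectTransparency false
set_option backward.isDefEq.respectTransparency.types false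

universe u v
open CategoryTheory CategoryTheory.Limits AlgebraicGeometry TopologicalSpace
open scoped Polynomial

namespace Groth.Agent.ParShLib

open Groth.Agent W4swparbununimod

theorem wtX_step_nonneg {C : Type u} [Category.{v} C] {E : C} (𝓔 : ParSh.Str E) (j : Fin (𝓔.l + 1)) :
    0 ≤ 𝓔.wtX j.succ - 𝓔.wtX j.castSucc := by
  induction j using Fin.lastCases with
  | last =>
    rw [Fin.succ_last, 𝓔.wtX_last, 𝓔.wtX_castSucc]
    linarith [𝓔.wt_lt_one]
  | cast i =>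
    rw [Fin.succ_castSucc, 𝓔.wtX_castSucc, 𝓔.wtX_castSucc]
    linarith [𝓔.wt_strictMono (Fin.castSucc_lt_succ (i := i))]

theorem sum_wtX_step {C : Type u} [Category.{v} C] {E : C} (𝓔 : ParSh.Str E) :
    ∑ j : Fin (𝓔.l + 1), (𝓔.wtX j.succ - 𝓔.wtX j.castSucc) = 1 - 𝓔.wt 0 := by
  rw [Finset.sum_sub_distrib]
  have e1 := Fin.sum_univ_succ 𝓔.wtX
  have e2 := Fin.sum_univ_castSucc 𝓔.wtX
  rw [𝓔.wtX_last] at e2
  have e3 : 𝓔.wtX 0 = 𝓔.wt 0 := 𝓔.wtX_castSucc 0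
  linarith

theorem parPoly_eval {C : Type u} [Category.{v} C] {E : C} (𝓔 : ParSh.Str E) (P : ℚ[X])
    (PX : Fin (𝓔.l + 2) → ℚ[X]) (h0 : PX 0 = P) (m : ℕ) :
    (parPoly 𝓔 PX).eval (m : ℝ) = ((P.eval (m : ℚ) : ℚ) : ℝ) -
      ∑ j : Fin (𝓔.l + 1), (𝓔.wtX j.succ - 𝓔.wtX j.castSucc) *
        (((P.eval (m : ℚ) : ℚ) : ℝ) - (((PX j.succ).eval (m : ℚ) : ℚ) : ℝ)) := by
  have key : parPoly 𝓔 PX = rpoly P -
      ∑ j : Fin (𝓔.l + 1), Polynomial.C (𝓔.wtX j.succ - 𝓔.wtX j.castSucc) * (rpoly P - rpoly (PX j.succ)) := by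
    ext n
    rw [parPoly_coeff 𝓔 P PX h0 n]
    simp only [Polynomial.coeff_sub, Polynomial.finsetSum_coeff, Polynomial.coeff_C_mul, Polynomial.coeff_map,
      eq_ratCast]
  rw [key]
  simp only [Polynomial.eval_sub, Polynomial.eval_finsetSum, Polynomial.eval_mul, Polynomial.eval_C, eval_rpoly]

variable {X : Scheme.{u}} (k : Type u) [Field k] [X.Over (Spec (CommRingCat.of k))]
  [IsProper (X ↘ Spec (CommRingCat.of k))] {L : X.Modules}

/-- Hilbert polynomials of the pieces from those of the quotients. -/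
theorem hilb_piece_of_cokernel (hL : CohB1.IsAmple L) {A E : X.Modules} (f : A ⟶ E) [Mono f] (hA : Coh.IsCoh A)
    (hE : Coh.IsCoh E) {P H : ℚ[X]} (hP : ShStab.IsHilbPoly k X L E P)
    (hH : ShStab.IsHilbPoly k X L (cokernel f) H) : ShStab.IsHilbPoly k X L A (P - H) := fun m => by
  haveI := CurveCohLib.isNoetherian_of_proper (k := k) (X := X)
  have h := euler_twist_add k (T := ShortComplex.mk f (cokernel.π f) (cokernel.condition _))
    { exact := ShortComplex.exact_cokernel _, mono_f := inferInstance, epi_g := inferInstance }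
    hA hE (QCoh.isCoh_cokernel hA.1 hE _) hL.1 m
  dsimp only at h
  rw [Polynomial.eval_sub, ← hP m, ← hH m, h]
  push_cast
  ring

/-- With semistable flag quotients the first modified polynomial lies below the induced one. -/
theorem parPolyOne_le (hL : CohB1.IsAmple L) {I : X.IdealSheafData} {E : X.Modules} (hE : Coh.IsCoh E)
    (𝓔 : ParSh.Str E) (h𝓔 : 𝓔.Along I) (hcoh : ∀ j, Coh.IsCoh ((𝓔.pieceX j : Subobject E) : X.Modules))
    {d : ℕ} (hsupp : topologicalKrullDim ↥(CohB1.support E ∩ (I.support : Set X)) < (d : WithBot ℕ∞))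
    (H : Fin (𝓔.l + 2) → ℚ[X]) (hH : ∀ j, ShStab.IsHilbPoly k X L (cokernel (𝓔.pieceX j).arrow) (H j))
    (hHa : ∀ j : Fin (𝓔.l + 1), StabCat.alpha (d - 1) (H j.succ) ≠ 0)
    (hq : ∀ j : Fin (𝓔.l + 1), StabCat.IsSS Coh.IsCoh (ShStab.IsHilbPoly k X L) (d - 1)
      (cokernel (𝓔.pieceX j.succ).arrow))
    {W : X.Modules} (ι : W ⟶ E) [Mono ι] (hW : Coh.IsCoh W)
    (Q : ℚ[X]) (hQ : ShStab.IsHilbPoly k X L W Q) (QH : Fin (𝓔.l + 2) → ℚ[X])
    (hQH : ∀ j, ShStab.IsHilbPoly k X L (cokernel ((𝓔.induced ι).pieceX j).arrow) (QH j)) :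
    (∀ j, ShStab.IsHilbPoly k X L (((𝓔.induced ι).pieceX j : Subobject W) : X.Modules) (Q - QH j)) ∧
    ∃ M : ℕ, ∀ m : ℕ, M ≤ m → (parPolyOne 𝓔 d Q QH H).eval (m : ℝ) ≤
      (parPoly (𝓔.induced ι) fun j => Q - QH j).eval (m : ℝ) := by
  haveI := CurveCohLib.isNoetherian_of_proper (k := k) (X := X)
  have hA := agreeOff_of_along I 𝓔 h𝓔
  have hcW : ∀ j, Coh.IsCoh (((𝓔.induced ι).pieceX j : Subobject W) : X.Modules) := fun j =>
    isCoh_induced hE hW 𝓔 ι hcoh j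
  have hpiece : ∀ j, ShStab.IsHilbPoly k X L (((𝓔.induced ι).pieceX j : Subobject W) : X.Modules) (Q - QH j) :=
    fun j => hilb_piece_of_cokernel k hL _ (hcW j) hW hQ (hQH j)
  refine ⟨hpiece, ?_⟩
  have key : ∀ j : Fin (𝓔.l + 1), ∀ᶠ m : ℕ in Filter.atTop, (QH j.succ).eval (m : ℚ) ≤
      StabCat.alpha (d - 1) (QH j.succ) / StabCat.alpha (d - 1) (H j.succ) * (H j.succ).eval (m : ℚ) := by
    intro j
    have hcE := QCoh.isCoh_cokernel (hcoh j.succ).1 hE (𝓔.pieceX j.succ).arrow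
    have hpos : 0 < StabCat.alpha (d - 1) (H j.succ) := lt_of_le_of_ne (mul_nonneg (Nat.cast_nonneg _)
      (coeff_nonneg_of_support k hL hcE (hA.support_cokernel hE.1 j.succ (hcoh j.succ).1) hsupp (hH j.succ)))
      (hHa j).symm
    have sq := (Subobject.isPullback ι (𝓔.pieceX j.succ)).flip
    let P' := (Subobject.pullback ι).obj (𝓔.pieceX j.succ)
    let f : cokernel P'.arrow ⟶ cokernel (𝓔.pieceX j.succ).arrow := cokernel.map _ _ _ _ sq.w
    haveI : Mono f := Abelian.mono_cokernel_map_of_isPullback sq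
    have hP' : Coh.IsCoh (P' : X.Modules) := by
      have h := hcW j.succ; rw [induced_pieceX] at h; exact h
    have hcP : Coh.IsCoh (cokernel P'.arrow) := QCoh.isCoh_cokernel hP'.1 hW _
    have hQ' : ShStab.IsHilbPoly k X L (cokernel P'.arrow) (QH j.succ) := by
      have h := hQH j.succ; rw [induced_pieceX] at h; exact h
    by_cases hz : IsZero (cokernel P'.arrow)
    · rw [HilbPoly.isHilbPoly_unique hQ' (HilbPoly.hilb_isZero hz)]
      simp [StabCat.alpha]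
    by_cases hi : IsIso f
    · rw [HilbPoly.isHilbPoly_unique (HilbPoly.hilb_iso (asIso f) hQ') (hH j.succ), div_self hpos.ne']
      simp
    obtain ⟨N, hN⟩ := hq j _ f inferInstance hcP hz hi _ _ hQ' (hH j.succ)
    filter_upwards [Filter.eventually_ge_atTop N] with m hm
    have h := hN m hm
    simp only [Polynomial.eval_smul, smul_eq_mul] at h
    rw [div_mul_eq_mul_div, le_div_iff₀ hpos]
    linarith
  have h0 := hilb_zero k hL (𝓔.induced ι) hQ hpiece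
  obtain ⟨M, hM⟩ := Filter.eventually_atTop.1 (Filter.eventually_all.2 key)
  refine ⟨M, fun m hm => ?_⟩
  rw [parPoly_eval (𝓔.induced ι) Q _ h0 m, parPolyOne, Polynomial.eval_sub, Polynomial.eval_finsetSum, eval_rpoly]
  refine sub_le_sub_left (Finset.sum_le_sum fun j _ => ?_) _
  rw [Polynomial.eval_mul, Polynomial.eval_C, eval_rpoly]
  show (𝓔.wtX j.succ - 𝓔.wtX j.castSucc) * _ ≤ _
  rw [mul_assoc]
  refine mul_le_mul_of_nonneg_left ?_ (wtX_step_nonneg 𝓔 j)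
  have h := hM m hm j
  have h' : (((QH j.succ).eval (m : ℚ) : ℚ) : ℝ) ≤ ((StabCat.alpha (d - 1) (QH j.succ) /
      StabCat.alpha (d - 1) (H j.succ) * (H j.succ).eval (m : ℚ) : ℚ) : ℝ) := Rat.cast_le.2 h
  rw [Polynomial.eval_sub, Rat.cast_sub, sub_sub_cancel]
  rw [Rat.cast_mul] at h'
  exact h'

/-- The induced polynomial is monotone in the submodule. -/
theorem parPoly_induced_mono (hL : CohB1.IsAmple L) {E W W' : X.Modules} (hE : Coh.IsCoh E) (𝓔 : ParSh.Str E)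
    (hcoh : ∀ j, Coh.IsCoh ((𝓔.pieceX j : Subobject E) : X.Modules))
    {d : ℕ} (hd : topologicalKrullDim ↥(CohB1.support E) ≤ (d : WithBot ℕ∞))
    (ι : W ⟶ E) [Mono ι] (ι' : W' ⟶ E) [Mono ι'] (l : W ⟶ W') (hl : l ≫ ι' = ι)
    (hW : Coh.IsCoh W) (hW' : Coh.IsCoh W')
    {Q Q' : ℚ[X]} (hQ : ShStab.IsHilbPoly k X L W Q) (hQ' : ShStab.IsHilbPoly k X L W' Q')
    (QX : Fin (𝓔.l + 2) → ℚ[X])
    (hQX : ∀ j, ShStab.IsHilbPoly k X L (((𝓔.induced ι).pieceX j : Subobject W) : X.Modules) (QX j))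
    (QX' : Fin (𝓔.l + 2) → ℚ[X])
    (hQX' : ∀ j, ShStab.IsHilbPoly k X L (((𝓔.induced ι').pieceX j : Subobject W') : X.Modules) (QX' j)) :
    ∃ M : ℕ, ∀ m : ℕ, M ≤ m →
      (parPoly (𝓔.induced ι) QX).eval (m : ℝ) ≤ (parPoly (𝓔.induced ι') QX').eval (m : ℝ) := by
  haveI := CurveCohLib.isNoetherian_of_proper (k := k) (X := X)
  have key : ∀ j, ∀ᶠ m : ℕ in Filter.atTop, (QX j).eval (m : ℚ) ≤ (QX' j).eval (m : ℚ) := by
    intro j
    have hc : Coh.IsCoh ((((𝓔.induced ι).pieceX j) : Subobject W) : X.Modules) := isCoh_induced hE hW 𝓔 ι hcoh j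
    have hc' : Coh.IsCoh ((((𝓔.induced ι').pieceX j) : Subobject W') : X.Modules) := isCoh_induced hE hW' 𝓔 ι' hcoh j
    have h1 := hQX j
    have h1' := hQX' j
    rw [induced_pieceX] at hc hc' h1 h1'
    have sq := Subobject.isPullback ι (𝓔.pieceX j)
    have sq' := Subobject.isPullback ι' (𝓔.pieceX j)
    let g := sq'.lift (Subobject.pullbackπ ι (𝓔.pieceX j)) (((Subobject.pullback ι).obj (𝓔.pieceX j)).arrow ≫ l)
      (by rw [sq.w, Category.assoc, hl])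
    haveI : Mono (g ≫ Subobject.pullbackπ ι' (𝓔.pieceX j)) := by
      rw [sq'.lift_fst]; exact sq.mono_fst_of_mono
    haveI : Mono g := mono_of_mono g (Subobject.pullbackπ ι' (𝓔.pieceX j))
    have hd' := HilbPoly.dim_mono hc' (hW') ((Subobject.pullback ι').obj (𝓔.pieceX j)).arrow
      (HilbPoly.dim_mono hW' hE ι' hd)
    obtain ⟨hC, hdC, hpC⟩ := HilbPoly.cokernel_data hL hc hc' hd' g h1 h1'
    obtain ⟨N, hN⟩ := HilbPoly.hilb_nonneg hL hC hdC hpC
    filter_upwards [Filter.eventually_ge_atTop N] with m hm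
    have := hN m hm
    simp only [Polynomial.eval_zero, Polynomial.eval_sub] at this
    linarith
  obtain ⟨M, hM⟩ := Filter.eventually_atTop.1 (Filter.eventually_all.2 key)
  have h0 := hilb_zero k hL (𝓔.induced ι) hQ hQX
  have h0' := hilb_zero k hL (𝓔.induced ι') hQ' hQX'
  refine ⟨M, fun m hm => ?_⟩
  rw [parPoly_eval (𝓔.induced ι) Q QX h0 m, parPoly_eval (𝓔.induced ι') Q' QX' h0' m]
  show _ - ∑ j : Fin (𝓔.l + 1), (𝓔.wtX j.succ - 𝓔.wtX j.castSucc) * _ ≤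
    _ - ∑ j : Fin (𝓔.l + 1), (𝓔.wtX j.succ - 𝓔.wtX j.castSucc) * _
  have hR : ∀ j, (((QX j).eval (m : ℚ) : ℚ) : ℝ) ≤ (((QX' j).eval (m : ℚ) : ℚ) : ℝ) := fun j =>
    Rat.cast_le.2 (hM m hm j)
  have hq0 : ((Q.eval (m : ℚ) : ℚ) : ℝ) ≤ ((Q'.eval (m : ℚ) : ℚ) : ℝ) := by
    have := hR 0; rwa [h0, h0'] at this
  have hsum := sum_wtX_step 𝓔
  rw [Finset.sum_sub_distrib] at hsum
  simp only [mul_sub, Finset.sum_sub_distrib, ← Finset.sum_mul, hsum]
  have hs : ∑ j : Fin (𝓔.l + 1), (𝓔.wtX j.succ - 𝓔.wtX j.castSucc) * (((QX j.succ).eval (m : ℚ) : ℚ) : ℝ) ≤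
      ∑ j : Fin (𝓔.l + 1), (𝓔.wtX j.succ - 𝓔.wtX j.castSucc) * (((QX' j.succ).eval (m : ℚ) : ℚ) : ℝ) :=
    Finset.sum_le_sum fun j _ => mul_le_mul_of_nonneg_left (hR j.succ) (wtX_step_nonneg 𝓔 j)
  nlinarith [mul_le_mul_of_nonneg_left hq0 𝓔.wt_nonneg, hs]

end Groth.Agent.ParShLib
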