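import Groth.Agent.QCoh.LocFree
import Groth.Agent.QCoh.Sections

/-!
# A locally free subsheaf has no larger rank
-/

universe u

open CategoryTheory AlgebraicGeometry

namespace Groth.Agent.ParShLib

variable {X : Scheme.{u}} [Nonempty X]

theorem rank_le_of_mono {F E : X.Modules} (f : F ⟶ E) [Mono f] {r n : ℕ}
    (hF : FlatMod.IsFinLocFreeOfRank r F) (hE : FlatMod.IsFinLocFreeOfRank n E) : r ≤ n := by
  obtain ⟨x⟩ := ‹Nonempty X›
  obtain ⟨U, hxU, ⟨eF⟩⟩ := hF x
  obtain ⟨U', hxU', ⟨eE⟩⟩ := hE x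
  obtain ⟨_, ⟨V, hV, rfl⟩, hxV, hle⟩ :=
    X.isBasis_affineOpens.exists_subset_of_mem_open (show x ∈ U ⊓ U' from ⟨hxU, hxU'⟩) (U ⊓ U').2
  obtain ⟨lF⟩ := QCoh.free_sections hV (fun _ h => (hle h).1) eF
  obtain ⟨lE⟩ := QCoh.free_sections hV (fun _ h => (hle h).2) eE
  haveI : Nontrivial Γ(X, V) := (X.presheaf.germ V x hxV).hom.domain_nontrivial
  let φ : Γ(F, V) →ₗ[Γ(X, V)] Γ(E, V) :=
    { toFun := f.app V
      map_add' := fun a b => map_add (f.app V).hom a b
      map_smul' := fun a b => f.app_smul a b }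
  let eE' := lE.trans (Finsupp.linearEquivFunOnFinite Γ(X, V) Γ(X, V) (ULift.{u} (Fin n)))
  let eF' := lF.trans (Finsupp.linearEquivFunOnFinite Γ(X, V) Γ(X, V) (ULift.{u} (Fin r)))
  let ψ := eE'.toLinearMap ∘ₗ φ ∘ₗ eF'.symm.toLinearMap
  have hφ : Function.Injective φ := QCoh.app_injective f V
  have hψ : Function.Injective ψ := by
    simp only [ψ, LinearMap.coe_comp, LinearEquiv.coe_coe]
    exact eE'.injective.comp (hφ.comp eF'.symm.injective)
  simpa using card_le_of_injective Γ(X, V) ψ hψ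

end Groth.Agent.ParShLib
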