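import Groth.Agent.ParShLib.AlongCurve

/-!
# Parabolic degree: quotient, saturation, extensions
-/

set_option autoImplicit false
set_option linter.style.haveILetI false
set_option linter.unusedSectionVars false
set_option maxHeartbeats 800000
set_option backward.isDefEq.respectTransparency false
set_option backward.isDefEq.respectTransparency.types false

universe u
open CategoryTheory CategoryTheory.Limits AlgebraicGeometry TopologicalSpace

namespace Groth.Agent.ParShLib

variable (k : Type u) [Field k] {X : Scheme.{u}} [X.Over (Spec (CommRingCat.of k))]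
  [IsIntegral X] [IsProper (X ↘ Spec (CommRingCat.of k))] (hdim : topologicalKrullDim X = 1)
  (I : X.IdealSheafData) (hD : FGA.IsEffCartier I)

include k hdim in
theorem isClosed_support_cokernel_of_rank_eq {V W : X.Modules} (u : V ⟶ W) [Mono u] {n : ℕ}
    (hV : FlatMod.IsFinLocFreeOfRank n V) (hW : FlatMod.IsFinLocFreeOfRank n W)
    {x : X} (hx : x ∈ CohB1.support (cokernel u)) : IsClosed ({x} : Set X) := by
  haveI := CurveCohLib.isNoetherian' (k := k) (X := X)
  by_contra hne
  obtain rfl := CurveCohLib.eq_genericPoint_of_not_isClosed hdim hne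
  have hVc : Coh.IsCoh V := CurveDeg.isCoh_of_isFinLocFree (ConsPropLib.isFinLocFreeOfRank_iff.1 hV).1
  have hWc : Coh.IsCoh W := CurveDeg.isCoh_of_isFinLocFree (ConsPropLib.isFinLocFreeOfRank_iff.1 hW).1
  have hC := QCoh.isCoh_cokernel hVc.1 hWc u
  have hS : (ShortComplex.mk u (cokernel.π u) (cokernel.condition u)).ShortExact :=
    { exact := ShortComplex.exact_of_g_is_cokernel _ (cokernelIsCokernel u) }
  have h := CurveCohLib.genRank_add hS hWc
  change CurveCohLib.genRank W = CurveCohLib.genRank V + CurveCohLib.genRank (cokernel u) at h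
  rw [CurveCohLib.genRank_eq hV, CurveCohLib.genRank_eq hW] at h
  haveI : Module.Finite (X.presheaf.stalk (genericPoint X)) ((cokernel u).presheaf.stalk (genericPoint X)) :=
    QCoh.finite_stalk_of_isFT hC.1 (QCoh.isFT_of_isFP (QCoh.isCoh_iff_isFP.1 hC)) _
  letI : Field (X.presheaf.stalk (genericPoint X)) := inferInstanceAs (Field X.functionField)
  exact hx (Module.finrank_zero_iff.1 (show CurveCohLib.genRank (cokernel u) = 0 by omega))

include k hdim hD in
/-- A map into a saturated structure does not lower the parabolic degree. -/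
theorem parDeg_le {V W : X.Modules} (u : V ⟶ W) [Mono u] {n : ℕ}
    (hV : FlatMod.IsFinLocFreeOfRank n V) (hW : FlatMod.IsFinLocFreeOfRank n W)
    (𝓐 : ParSh.Str V) (hA : 𝓐.Along I) (𝓑 : ParSh.Str W) (hB : 𝓑.Along I)
    (h : ∀ t : ℝ, 0 ≤ t → t ≤ 1 → 𝓐.at t ≤ (Subobject.pullback u).obj (𝓑.at t)) :
    𝓐.parDeg k X n ≤ 𝓑.parDeg k X n := by
  haveI := CurveCohLib.isNoetherian' (k := k) (X := X)
  have hVc : Coh.IsCoh V := CurveDeg.isCoh_of_isFinLocFree (ConsPropLib.isFinLocFreeOfRank_iff.1 hV).1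
  have hWc : Coh.IsCoh W := CurveDeg.isCoh_of_isFinLocFree (ConsPropLib.isFinLocFreeOfRank_iff.1 hW).1
  let χ : X.Modules → ℝ := fun G => (Curv2.euler k X G : ℝ)
  obtain ⟨gA, hgA, hgA', hwA⟩ := sum_wt_eq_integral 𝓐 χ
  obtain ⟨gB, hgB, hgB', hwB⟩ := sum_wt_eq_integral 𝓑 χ
  have key : ∀ t : ℝ, 0 ≤ t → t ≤ 1 → Curv2.euler k X ((𝓐.at t : Subobject V) : X.Modules) ≤
      Curv2.euler k X ((𝓑.at t : Subobject W) : X.Modules) := by
    intro t ht0 ht1
    have hpb := Subobject.isPullback u (𝓑.at t)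
    let f : ((𝓐.at t : Subobject V) : X.Modules) ⟶ ((𝓑.at t : Subobject W) : X.Modules) :=
      Subobject.ofLE _ _ (h t ht0 ht1) ≫ Subobject.pullbackπ u (𝓑.at t)
    have hf : f ≫ (𝓑.at t).arrow = (𝓐.at t).arrow ≫ u := by
      rw [Category.assoc, hpb.w, ← Category.assoc, Subobject.ofLE_arrow]
    haveI : Mono (f ≫ (𝓑.at t).arrow) := by rw [hf]; exact mono_comp _ _
    haveI : Mono f := mono_of_mono f (𝓑.at t).arrow
    refine (CurveCohLib.euler_le_of_mono (k := k) f (isCoh_at k hdim I hD hVc hA t)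
      (isCoh_at k hdim I hD hWc hB t) fun x hx => ?_).1
    by_contra hne
    have hxI : x ∉ (I.support : Set X) := fun hI => hne (isClosed_singleton_of_mem_support k hdim I hD hI)
    have hxu : x ∉ CohB1.support (cokernel u) := fun hu => hne (isClosed_support_cokernel_of_rank_eq k hdim u hV hW hu)
    let F := DerSch.stalkFunctor X x
    haveI : IsIso (F.map u) := isIso_stalk_of_notMem u hxu
    haveI : IsIso (F.map (𝓐.at t).arrow) := isIso_stalk_of_le I hA (𝓐.bot_le_at t) hxI
    haveI : IsIso (F.map (𝓑.at t).arrow) := isIso_stalk_of_le I hB (𝓑.bot_le_at t) hxI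
    have hf' : F.map f ≫ F.map (𝓑.at t).arrow = F.map ((𝓐.at t).arrow ≫ u) := by rw [← F.map_comp, hf]
    haveI : IsIso (F.map ((𝓐.at t).arrow ≫ u)) := by rw [F.map_comp]; infer_instance
    haveI : IsIso (F.map f) := IsIso.of_isIso_fac_right hf'
    exact Snapper.notMem_support_cokernel f inferInstance hx
  have hint : (∫ t in (0 : ℝ)..1, gA t) + χ (𝓐.bot : X.Modules) ≤ (∫ t in (0 : ℝ)..1, gB t) + χ (𝓑.bot : X.Modules) := by
    have hAi : IntervalIntegrable (fun t => gA t + χ (𝓐.bot : X.Modules)) MeasureTheory.volume 0 1 :=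
      hgA.add intervalIntegrable_const
    have hBi : IntervalIntegrable (fun t => gB t + χ (𝓑.bot : X.Modules)) MeasureTheory.volume 0 1 :=
      hgB.add intervalIntegrable_const
    have h1 := intervalIntegral.integral_mono_on zero_le_one hAi hBi fun t ht => by
      rw [hgA', hgB']
      have := key t ht.1 ht.2
      simp only [χ]
      have h' : (Curv2.euler k X ((𝓐.at t : Subobject V) : X.Modules) : ℝ) ≤
          Curv2.euler k X ((𝓑.at t : Subobject W) : X.Modules) := by exact_mod_cast this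
      linarith
    rw [intervalIntegral.integral_add hgA intervalIntegrable_const,
      intervalIntegral.integral_add hgB intervalIntegrable_const] at h1
    simpa using h1
  have eA := euler_twistSub k hdim I hD hV
  have eB := euler_twistSub k hdim I hD hW
  rw [← (hA : 𝓐.bot = _)] at eA
  rw [← (hB : 𝓑.bot = _)] at eB
  rw [hwA, hwB] at hint
  unfold ParSh.Str.parDeg ParSh.Str.parWt Curv2.deg
  rw [eA, eB]
  push_cast
  simp only [χ] at hint
  linarith
where
  isIso_stalk_of_notMem {V W : X.Modules} (u : V ⟶ W) [Mono u] {x : X} (hx : x ∉ CohB1.support (cokernel u)) :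
      IsIso ((DerSch.stalkFunctor X x).map u) := by
    have hS : (ShortComplex.mk u (cokernel.π u) (cokernel.condition u)).Exact :=
      ShortComplex.exact_of_g_is_cokernel _ (cokernelIsCokernel u)
    haveI : Epi ((DerSch.stalkFunctor X x).map u) := (hS.map (DerSch.stalkFunctor X x)).epi_f
      ((Snapper.notMem_support_iff.1 hx).eq_of_tgt _ _)
    exact isIso_of_mono_of_epi _
  isIso_stalk_of_le (I : X.IdealSheafData) {V : X.Modules} {𝓐 : ParSh.Str V} (hA : 𝓐.Along I) {P : Subobject V}
      (hP : 𝓐.bot ≤ P) {x : X} (hx : x ∉ (I.support : Set X)) :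
      IsIso ((DerSch.stalkFunctor X x).map P.arrow) := by
    haveI := isOn_twistSub I V hx
    have hP' : ParSh.twistSub I V ≤ P := hA ▸ hP
    haveI : Epi ((DerSch.stalkFunctor X x).map (Subobject.ofLE _ _ hP') ≫ (DerSch.stalkFunctor X x).map P.arrow) := by
      rw [← Functor.map_comp, Subobject.ofLE_arrow]; infer_instance
    haveI := epi_of_epi ((DerSch.stalkFunctor X x).map (Subobject.ofLE _ _ hP')) ((DerSch.stalkFunctor X x).map P.arrow)
    exact isIso_of_mono_of_epi _

include k hdim hD in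
/-- The saturation inequality for a parabolic homomorphism. -/
theorem parDeg_coinduced_le_induced {E F V W : X.Modules} (𝓔 : ParSh.Str E) (hE : 𝓔.Along I) (𝓕 : ParSh.Str F)
    (hF : 𝓕.Along I) (φ : E ⟶ F) (hφ : ParSh.IsParHom 𝓔 𝓕 φ)
    (q : E ⟶ V) [Epi q] (u : V ⟶ W) [Mono u] (ι : W ⟶ F) [Mono ι] (hfac : q ≫ u ≫ ι = φ) {n : ℕ}
    (hV : FlatMod.IsFinLocFreeOfRank n V) (hW : FlatMod.IsFinLocFreeOfRank n W)
    (hsat : FlatMod.IsFinLocFree (cokernel ι)) :
    (𝓔.coinduced q).parDeg k X n ≤ (𝓕.induced ι).parDeg k X n := by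
  refine parDeg_le k hdim I hD u hV hW _ (along_coinduced I hE q) _ (along_induced I hF ι hsat) fun t h0 h1 => ?_
  rw [at_induced, at_coinduced, ← Subobject.pullback_comp]
  have hpb := Subobject.isPullback (u ≫ ι) (𝓕.at t)
  have hf := Subobject.factorThru_arrow (𝓕.at t) ((𝓔.at t).arrow ≫ φ) (hφ t h0 h1)
  exact imageSubobject_le _ (hpb.lift _ ((𝓔.at t).arrow ≫ q) (by rw [hf, ← hfac]; simp only [Category.assoc]))
    (hpb.lift_snd _ _ _)

include k hdim hD in
/-- Parabolic degree is additive. -/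
theorem parDeg_add {A B C : X.Modules} (i : A ⟶ B) (p : B ⟶ C) [Epi p] (w : i ≫ p = 0)
    (hS : (ShortComplex.mk i p w).ShortExact) (𝓑 : ParSh.Str B) (hB : 𝓑.Along I) (hBc : Coh.IsCoh B)
    (hC : Coh.IsCoh C) (hA : Coh.IsCoh A) (a c : ℕ) :
    𝓑.parDeg k X (a + c) = (𝓑.induced i).parDeg k X a + (𝓑.coinduced p).parDeg k X c := by
  haveI := CurveCohLib.isNoetherian' (k := k) (X := X)
  have hd := CurveCohLib.deg_add k hS hA hBc hC a c
  have key : ∀ P : Subobject B, Coh.IsCoh (P : X.Modules) → (Curv2.euler k X (P : X.Modules) : ℝ) =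
      (Curv2.euler k X (((Subobject.pullback i).obj P : Subobject A) : X.Modules) : ℝ) +
        (Curv2.euler k X ((imageSubobject (P.arrow ≫ p) : Subobject C) : X.Modules) : ℝ) := fun P hP => by
    obtain ⟨w', hT⟩ := shortExact_pullback_image hS P
    obtain ⟨h1, h3⟩ := isCoh_parts _ (P.arrow ≫ p) hP hC w' hT
    exact_mod_cast CurveCohLib.euler_additive (k := k) hT h1 hP h3
  have hX : ∀ j, (Curv2.euler k X ((𝓑.pieceX j : Subobject B) : X.Modules) : ℝ) =
      (Curv2.euler k X (((𝓑.induced i).pieceX j : Subobject A) : X.Modules) : ℝ) +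
        (Curv2.euler k X (((𝓑.coinduced p).pieceX j : Subobject C) : X.Modules) : ℝ) := fun j => by
    rw [key _ (isCoh_pieceX k hdim I hD hBc hB j)]
    induction j using Fin.lastCases with
    | last =>
      rw [𝓑.pieceX_last,
        show (𝓑.induced i).pieceX (Fin.last (𝓑.l + 1)) = (𝓑.induced i).bot from (𝓑.induced i).pieceX_last,
        show (𝓑.coinduced p).pieceX (Fin.last (𝓑.l + 1)) = (𝓑.coinduced p).bot from (𝓑.coinduced p).pieceX_last]
      rfl
    | cast j =>
      rw [𝓑.pieceX_castSucc,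
        show (𝓑.induced i).pieceX j.castSucc = (𝓑.induced i).piece j from (𝓑.induced i).pieceX_castSucc j,
        show (𝓑.coinduced p).pieceX j.castSucc = (𝓑.coinduced p).piece j from (𝓑.coinduced p).pieceX_castSucc j]
      rfl
  have hw : 𝓑.parWt k X = (𝓑.induced i).parWt k X + (𝓑.coinduced p).parWt k X := by
    unfold ParSh.Str.parWt
    refine Eq.trans ?_ (Finset.sum_add_distrib)
    refine Finset.sum_congr rfl fun j _ => ?_
    have h1 := hX j.castSucc
    rw [𝓑.pieceX_castSucc,
      show (𝓑.induced i).pieceX j.castSucc = (𝓑.induced i).piece j from (𝓑.induced i).pieceX_castSucc j,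
      show (𝓑.coinduced p).pieceX j.castSucc = (𝓑.coinduced p).piece j from (𝓑.coinduced p).pieceX_castSucc j] at h1
    rw [h1, hX j.succ]
    show 𝓑.wt j * (_ - _) = 𝓑.wt j * (_ - _) + 𝓑.wt j * (_ - _)
    ring
  unfold ParSh.Str.parDeg
  rw [hw]
  have hd' : (Curv2.deg k X B (a + c) : ℝ) = (Curv2.deg k X A a : ℝ) + (Curv2.deg k X C c : ℝ) := by
    exact_mod_cast hd
  linarith

end Groth.Agent.ParShLib
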